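import Groth.Agent.Lib.Faltings.Killed
import Groth.Agent.Lib.Depth.CM
import Groth.Agent.Lib.Serre.Regular
import Mathlib.RingTheory.LocalProperties.ProjectiveDimension

/-! Elements killing local cohomology below the grade minus the projective dimension. -/

universe u

open CategoryTheory

namespace GrothLib.Faltings

variable {R : Type u} [CommRing R]

/-- Elements killing `H^i_b(M)` whenever `i + t < depth_b R`. -/
noncomputable def smulKiller (t : ℕ) (M : Type u) [AddCommGroup M] [Module R M] : Ideal R :=
  ⨅ (b : Ideal R) (i : ℕ) (_ : ((i + t : ℕ) : ℕ∞) < LocCoh.idealDepth b R),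
    Module.annihilator R (LocCoh.H b i M)

theorem mem_smulKiller_iff {t : ℕ} {M : Type u} [AddCommGroup M] [Module R M] {s : R} :
    s ∈ smulKiller t M ↔ ∀ (b : Ideal R) (i : ℕ), ((i + t : ℕ) : ℕ∞) < LocCoh.idealDepth b R →
      ∀ z : LocCoh.H b i M, s • z = 0 := by
  simp only [smulKiller, Submodule.mem_iInf, Module.mem_annihilator]

variable [IsNoetherianRing R]

theorem subsingleton_H_pi (b : Ideal R) (i r : ℕ) (h : (i : ℕ∞) < LocCoh.idealDepth b R) :
    Subsingleton (LocCoh.H b i (Fin r → R)) := by
  have hR : Subsingleton (LocCoh.H b i R) :=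
    (GrothLib.Depth.le_idealDepth_iff_H b (i + 1)).1 (by exact_mod_cast Order.add_one_le_of_lt h) i (by omega)
  refine GrothLib.LC.subsingleton_of_sum_factor b (Finset.univ : Finset (Fin r))
    (fun _ => ModuleCat.of R R) (fun j => ModuleCat.ofHom (LinearMap.proj j))
    (fun j => ModuleCat.ofHom (LinearMap.single R (fun _ => R) j)) ?_ i (fun _ _ => hR)
  refine ModuleCat.hom_ext (LinearMap.ext fun v => ?_)
  simp only [ModuleCat.hom_sum, ModuleCat.hom_comp, ModuleCat.hom_ofHom, LinearMap.coe_comp,
    LinearMap.coe_sum, Finset.sum_apply, Function.comp_apply, LinearMap.proj_apply, ModuleCat.hom_id,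
    LinearMap.id_coe, id_eq]
  exact Finset.univ_sum_single v

theorem exists_factor (T : Submonoid R) {r : ℕ} {M : Type u} [AddCommGroup M] [Module R M]
    [Module.Finite R M] (f : (Fin r → R) →ₗ[R] M) (hf : Function.Surjective f)
    [Module.Projective (Localization T) (LocalizedModule T M)] :
    ∃ (s : R) (g : M →ₗ[R] (Fin r → R)), s ∈ T ∧ f.comp g = s • LinearMap.id := by
  let mF := LocalizedModule.mkLinearMap T (Fin r → R)
  let mM := LocalizedModule.mkLinearMap T M
  obtain ⟨σ, hσ⟩ := Module.projective_lifting_property (LocalizedModule.map T f)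
    (LinearMap.id : LocalizedModule T M →ₗ[Localization T] _)
    (LocalizedModule.map_surjective _ _ hf)
  haveI := Module.finitePresentation_of_finite R M
  obtain ⟨g, s, hg⟩ := Module.FinitePresentation.exists_lift_of_isLocalizedModule T mF
    ((σ.restrictScalars R).comp mM)
  have hcomp : mM.comp (f.comp g) = mM.comp ((s : R) • LinearMap.id) := by
    refine LinearMap.ext fun m => ?_
    show mM (f (g m)) = mM ((s : R) • m)
    have h1 : mF (g m) = (s : R) • σ (mM m) := by
      have := LinearMap.congr_fun hg m
      simpa [Submonoid.smul_def] using this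
    have h2 : mM (f (g m)) = LocalizedModule.map T f (mF (g m)) := by
      simp [mM, mF, LocalizedModule.mkLinearMap_apply, LocalizedModule.map_mk]
    rw [h2, h1, LinearMap.map_smul_of_tower, map_smul]
    exact congrArg _ (LinearMap.congr_fun hσ _)
  obtain ⟨u, hu⟩ := Module.Finite.exists_smul_of_comp_eq_of_isLocalizedModule T mM _ _ hcomp
  refine ⟨(u : R) * s, (u : R) • g, Submonoid.mul_mem _ u.2 s.2, ?_⟩
  rw [LinearMap.comp_smul, mul_smul]
  simpa [Submonoid.smul_def] using hu

/-- At a prime where `M` has projective dimension at most `t` some element outside it lies in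
`smulKiller t M`. -/
theorem exists_mem_smulKiller (t : ℕ) : ∀ (M : ModuleCat.{u} R) [Module.Finite R M] (p : Ideal R) [p.IsPrime],
    HasProjectiveDimensionLE (M.localizedModule p.primeCompl) t → ∃ s ∈ smulKiller t M, s ∉ p := by
  induction t with
  | zero =>
    intro M _ p _ h
    obtain ⟨r, f, hf⟩ := Module.Finite.exists_fin' R M
    have hproj : Projective (M.localizedModule p.primeCompl) :=
      projective_iff_hasProjectiveDimensionLT_one.2 h
    rw [← IsProjective.iff_projective] at hproj
    let el : (M.localizedModule p.primeCompl : Type u) ≃ₗ[Localization.AtPrime p]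
        LocalizedModule p.primeCompl M := Shrink.linearEquiv _ _
    haveI : Module.Projective (Localization.AtPrime p) (LocalizedModule p.primeCompl M) :=
      Module.Projective.of_equiv el
    obtain ⟨s, g, hs, hfg⟩ := exists_factor p.primeCompl f hf
    refine ⟨s, mem_smulKiller_iff.2 fun b i hi z => ?_, hs⟩
    haveI := subsingleton_H_pi b i r (by simpa using hi)
    rw [← map_smul_id i s z, show s • 𝟙 (ModuleCat.of R M) = ModuleCat.ofHom g ≫ ModuleCat.ofHom f from
      ModuleCat.hom_ext hfg.symm, GrothLib.LC.map_comp_apply,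
      Subsingleton.elim ((localCohomology b i).map (ModuleCat.ofHom g) z) 0, map_zero]
  | succ t ih =>
    intro M _ p _ h
    obtain ⟨r, f, hf⟩ := Module.Finite.exists_fin' R M
    have hS := LinearMap.shortExact_shortComplexKer hf
    have hSp := hS.map_of_exact (ModuleCat.localizedModuleFunctor p.primeCompl)
    have hproj : Projective f.shortComplexKer.X₂ := ModuleCat.projective_of_categoryTheory_projective (R := R) _
    obtain ⟨s, hs, hsp⟩ := ih (ModuleCat.of R (LinearMap.ker f)) p
      ((hSp.hasProjectiveDimensionLT_X₃_iff t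
        ((ModuleCat.localizedModuleFunctor.{u} p.primeCompl).projective_obj_of_projective hproj)).1 h)
    refine ⟨s, mem_smulKiller_iff.2 fun b i hi z => ?_, hsp⟩
    have h1 : GrothLib.LC.δ b hS i (s • z) = 0 := by
      rw [map_smul]
      exact mem_smulKiller_iff.1 hs b (i + 1) (by rwa [show i + 1 + t = i + (t + 1) by omega]) _
    obtain ⟨y, hy⟩ := GrothLib.LC.exists_of_δ_eq_zero b hS i h1
    haveI := subsingleton_H_pi b i r (lt_of_le_of_lt (Nat.cast_le.2 (Nat.le_add_right i (t + 1))) hi)
    rw [← hy, show y = 0 from Subsingleton.elim (α := LocCoh.H b i (Fin r → R)) y 0, map_zero]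

theorem exists_mem_smulKiller' (t : ℕ) (M : Type u) [AddCommGroup M] [Module R M] [Module.Finite R M]
    (p : Ideal R) [p.IsPrime]
    (h : HasProjectiveDimensionLE (ModuleCat.of (Localization.AtPrime p) (LocalizedModule p.primeCompl M)) t) :
    ∃ s ∈ smulKiller t M, s ∉ p :=
  exists_mem_smulKiller t (ModuleCat.of R M) p
    (haveI := h; ModuleCat.hasProjectiveDimensionLE_of_linearEquiv
      (M := ModuleCat.of (Localization.AtPrime p) (LocalizedModule p.primeCompl M))
      (N := (ModuleCat.of R M).localizedModule p.primeCompl) (Shrink.linearEquiv _ _).symm t)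

open IsLocalRing in
/-- The inequality `pd + depth ≤ dim` over a regular local ring. -/
theorem pdLE_of_le_depth {A : Type u} [CommRing A] [IsRegularLocalRing A] {d : ℕ} (hd : ringKrullDim A = d)
    (M : Type u) [AddCommGroup M] [Module A M] [Module.Finite A M] [Nontrivial M] {n : ℕ}
    (hn : (n : ℕ∞) ≤ LocCoh.depth A M) :
    n ≤ d ∧ HasProjectiveDimensionLE (ModuleCat.of A M) (d - n) := by
  have hne : maximalIdeal A • (⊤ : Submodule A M) ≠ ⊤ :=
    GrothLib.Depth.smul_top_ne_top (maximalIdeal.isMaximal A).ne_top
  obtain ⟨rs, hlen, hmem, hreg⟩ := (GrothLib.Depth.le_idealDepth_iff_exists _ hne n).1 hn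
  haveI := GrothLib.Depth.nontrivial_quotient_ofList (M := M) rs hmem
  have heq := ModuleCat.projectiveDimension_quotient_eq_add_length_of_isWeaklyRegular
    (ModuleCat.of A M) rs hreg hmem
  haveI : HasProjectiveDimensionLE (ModuleCat.of A (M ⧸ Ideal.ofList rs • (⊤ : Submodule A M))) d :=
    GrothLib.Serre.pdLE_of_isRegularLocalRing A d hd _
  have hle := (projectiveDimension_le_iff _ d).2 this
  rw [heq, hlen] at hle
  have hne' : projectiveDimension (ModuleCat.of A M) ≠ ⊥ := fun hb => by
    rw [projectiveDimension_eq_bot_iff, ModuleCat.isZero_iff_subsingleton] at hb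
    exact not_subsingleton M hb
  rw [← projectiveDimension_le_iff]
  generalize projectiveDimension (ModuleCat.of A M) = e at hle hne' ⊢
  induction e using WithBot.recBotCoe with
  | bot => exact absurd rfl hne'
  | coe e =>
    induction e using ENat.recTopCoe with
    | top =>
      exfalso
      revert hle
      norm_cast
      rw [top_add]
      simp
    | coe e =>
      have h2 : e + n ≤ d := by exact_mod_cast hle
      exact ⟨by omega, WithBot.coe_le_coe.2 (Nat.cast_le.2 (show e ≤ d - n by omega))⟩

end GrothLib.Faltings
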