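import Groth.Agent.Lib.Faltings.Transfer
import Groth.Agent.Lib.Faltings.ProjKiller
import Groth.Agent.Lib.LC.ChangeSeq
import Groth.Agent.Lib.LC.Support
import Groth.Agent.Lib.CMFree.Regular

/-! `minAdjDepth ≤ finDimRel` over regular rings: Faltings' annihilator theorem. -/

universe u

open CategoryTheory IsLocalRing

namespace GrothLib.Faltings

variable {S : Type u} [CommRing S]

theorem exists_avoid_mul_mem_radical [IsNoetherianRing S] (J q : Ideal S) [q.IsPrime] :
    ∃ f ∉ q, ∀ x : S, (∀ P : Ideal S, P.IsPrime → J ≤ P → P ≤ q → x ∈ P) → x * f ∈ J.radical := by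
  classical
  have hfin := J.finite_minimalPrimes_of_isNoetherianRing S
  let T := hfin.toFinset.filter fun P => ¬ P ≤ q
  have hex : ∀ P : T, ∃ c ∈ (P.1 : Ideal S), c ∉ q := fun P =>
    SetLike.not_le_iff_exists.1 (Finset.mem_filter.1 P.2).2
  choose c hc hcq using hex
  refine ⟨∏ P, c P, fun h => ?_, fun x hx => ?_⟩
  · obtain ⟨P, -, hP⟩ := (‹q.IsPrime›.prod_mem_iff).1 h
    exact hcq P hP
  · rw [← Ideal.sInf_minimalPrimes, Submodule.mem_sInf]
    intro P hP
    by_cases hPq : P ≤ q
    · exact Ideal.mul_mem_right _ _ (hx P hP.isPrime hP.le hPq)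
    · exact Ideal.mul_mem_left _ _ (Ideal.mem_of_dvd _ (Finset.dvd_prod_of_mem c (Finset.mem_univ
        (⟨P, Finset.mem_filter.2 ⟨hfin.mem_toFinset.2 hP, hPq⟩⟩ : T)))
        (hc ⟨P, Finset.mem_filter.2 ⟨hfin.mem_toFinset.2 hP, hPq⟩⟩))

variable [IsRegularRing S]

theorem exists_ringKrullDim_atPrime (P : Ideal S) [P.IsPrime] :
    ∃ d : ℕ, ringKrullDim (Localization.AtPrime P) = d ∧ P.height = d := by
  haveI := IsRegularRing.isRegularLocalRing_localization P
  obtain ⟨d, hd⟩ : ∃ d : ℕ, ringKrullDim (Localization.AtPrime P) = d :=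
    ⟨_, (IsRegularLocalRing.spanFinrank_maximalIdeal (R := Localization.AtPrime P)).symm⟩
  refine ⟨d, hd, ?_⟩
  have h := IsLocalization.AtPrime.ringKrullDim_eq_height P (Localization.AtPrime P)
  rw [hd] at h
  exact_mod_cast h.symm

/-- In a regular ring the grade of a prime is at least its height. -/
theorem height_le_idealDepth (q : Ideal S) [q.IsPrime] : q.height ≤ LocCoh.idealDepth q S := by
  by_contra hlt
  rw [not_le] at hlt
  obtain ⟨n, hn⟩ := ENat.ne_top_iff_exists.1 (ne_top_of_lt hlt)
  obtain ⟨P, hP, hd⟩ := GrothLib.Depth.exists_depth_localization_le (M := S) q n hn.symm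
  haveI := IsRegularRing.isRegularLocalRing_localization P.asIdeal
  obtain ⟨d, hd', hht⟩ := exists_ringKrullDim_atPrime P.asIdeal
  rw [GrothLib.Depth.depth_localization_self] at hd
  obtain ⟨rs, hreg, hmem, hlen⟩ :=
    GrothLib.CMFree.exists_weaklyRegular_of_isRegularLocalRing (Localization.AtPrime P.asIdeal)
  have h1 : ((rs.length : ℕ) : ℕ∞) ≤ LocCoh.depth (Localization.AtPrime P.asIdeal) (Localization.AtPrime P.asIdeal) :=
    (GrothLib.Depth.le_idealDepth_iff_exists _ (GrothLib.Depth.smul_top_ne_top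
      (maximalIdeal.isMaximal _).ne_top) _).2 ⟨rs, rfl, hmem, hreg⟩
  have hlen' : rs.length = d := by rw [hd'] at hlen; exact_mod_cast hlen
  rw [hlen'] at h1
  have h2 : (d : ℕ∞) ≤ n := h1.trans hd
  rw [← hn] at hlt
  exact absurd ((Ideal.height_mono hP).trans (hht.le.trans h2)) (not_le.2 hlt)

/-- Faltings: annihilation for one element and one degree. -/
theorem killed_of_adjDepth (x : S) (M : Type u) [AddCommGroup M] [Module S M] [Module.Finite S M]
    (i : ℕ) (a : Ideal S)
    (h : ∀ p : PrimeSpectrum S, x ∉ p.asIdeal → ((i + 1 : ℕ) : ℕ∞) ≤ LocCoh.adjDepth a M p) :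
    Killed a x i M := by
  induction a using WellFoundedGT.induction with
  | _ a ih =>
  by_cases hatop : a = ⊤
  · subst hatop
    exact Killed.of_subsingleton (GrothLib.LC.subsingleton_H_zero_ideal_top i (ModuleCat.of S M))
  obtain ⟨m, hm, ham⟩ := Ideal.exists_le_maximal a hatop
  haveI := hm.isPrime
  obtain ⟨q, hq, -⟩ := Ideal.exists_minimalPrimes_le ham
  haveI := hq.isPrime
  have haq : a ≤ q := hq.le
  -- a multiple of `x` killing `H^i_q(M)`
  have key : ∃ f ∉ q, ∃ N : ℕ, ∀ w : LocCoh.H q i M, (x * f) ^ N • w = 0 := by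
    obtain ⟨g, hg⟩ := ENat.ne_top_iff_exists.1 (Ideal.height_ne_top (I := q) ‹q.IsPrime›.ne_top)
    have hbound : ∀ (P : Ideal S) [P.IsPrime], P ≤ q → x ∉ P →
        Nontrivial (LocalizedModule P.primeCompl M) →
        ∃ n d r : ℕ, LocCoh.depth (Localization.AtPrime P) (LocalizedModule P.primeCompl M) = n ∧
          ringKrullDim (Localization.AtPrime P) = d ∧ n ≤ d ∧ d + r ≤ g ∧ i + 1 ≤ n + r := by
      intro P hP hPq hxP hnt
      haveI := IsRegularRing.isRegularLocalRing_localization P
      obtain ⟨n, hn⟩ := exists_depth_eq P M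
      obtain ⟨d, hd, hht⟩ := exists_ringKrullDim_atPrime P
      obtain ⟨r, hr⟩ := ENat.ne_top_iff_exists.1 (relHeight_ne_top P q hPq)
      haveI : Module.Finite (Localization.AtPrime P) (LocalizedModule P.primeCompl M) :=
        Module.Finite.of_isLocalizedModule P.primeCompl (LocalizedModule.mkLinearMap P.primeCompl M)
      refine ⟨n, d, r, hn, hd, (pdLE_of_le_depth hd _ hn.ge).1, ?_, ?_⟩
      · have := height_add_relHeight_le P q hPq
        rw [hht, ← hr, ← hg] at this
        exact_mod_cast this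
      · have h1 := h ⟨P, hP⟩ hxP
        rw [LocCoh.adjDepth, hn] at h1
        have h2 : ((a ⊔ P).map (Ideal.Quotient.mk P)).height ≤ (r : ℕ∞) := by
          rw [hr]; exact relHeight_mono P (sup_le haq hPq)
        exact_mod_cast h1.trans (add_le_add le_rfl h2)
    by_cases hgi : i < g
    · obtain ⟨f, hf, hrad⟩ := exists_avoid_mul_mem_radical (smulKiller (R := S) (g - i - 1) M) q
      have hx : x * f ∈ (smulKiller (R := S) (g - i - 1) M).radical := by
        refine hrad x fun P hP hJP hPq => ?_
        by_contra hxP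
        haveI := hP
        have hpd : HasProjectiveDimensionLE
            (ModuleCat.of (Localization.AtPrime P) (LocalizedModule P.primeCompl M)) (g - i - 1) := by
          by_cases hnt : Nontrivial (LocalizedModule P.primeCompl M)
          · haveI := IsRegularRing.isRegularLocalRing_localization P
            obtain ⟨n, d, r, hn, hd, -, h1, h2⟩ := hbound P hPq hxP hnt
            haveI : Module.Finite (Localization.AtPrime P) (LocalizedModule P.primeCompl M) :=
              Module.Finite.of_isLocalizedModule P.primeCompl (LocalizedModule.mkLinearMap P.primeCompl M)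
            haveI : HasProjectiveDimensionLE _ (d - n) := (pdLE_of_le_depth hd _ hn.ge).2
            exact hasProjectiveDimensionLT_of_ge _ (d - n + 1) _ (by omega)
          · rw [not_nontrivial_iff_subsingleton] at hnt
            haveI : HasProjectiveDimensionLT
                (ModuleCat.of (Localization.AtPrime P) (LocalizedModule P.primeCompl M)) 0 :=
              (ModuleCat.isZero_iff_subsingleton.2 hnt).hasProjectiveDimensionLT_zero
            exact hasProjectiveDimensionLT_of_ge _ 0 _ (by omega)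
        obtain ⟨s, hs, hsP⟩ := exists_mem_smulKiller' (g - i - 1) M P hpd
        exact hsP (hJP hs)
      obtain ⟨N, hN⟩ := Ideal.mem_radical_iff.1 hx
      refine ⟨f, hf, N, mem_smulKiller_iff.1 hN q i ?_⟩
      refine lt_of_lt_of_le ?_ (height_le_idealDepth q)
      rw [← hg]
      exact_mod_cast (show i + (g - i - 1) < g by omega)
    · obtain ⟨f, hf, hrad⟩ := exists_avoid_mul_mem_radical (Module.annihilator S M) q
      have hx : x * f ∈ (Module.annihilator S M).radical := by
        refine hrad x fun P hP hJP hPq => ?_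
        by_contra hxP
        haveI := hP
        have hnt : Nontrivial (LocalizedModule P.primeCompl M) := by
          have h1 : (⟨P, hP⟩ : PrimeSpectrum S) ∈ Module.support S M :=
            Module.mem_support_iff_of_finite.2 hJP
          exact h1
        obtain ⟨n, d, r, -, -, h1, h2, h3⟩ := hbound P hPq hxP hnt
        omega
      obtain ⟨N, hN⟩ := Ideal.mem_radical_iff.1 hx
      exact ⟨f, hf, N, smul_H_eq_zero _ (fun m => Module.mem_annihilator.1 hN m) i⟩
  obtain ⟨f, hf, N, hN⟩ := key
  obtain ⟨c, hcq, hc⟩ := exists_avoid_mul_mem_radical a q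
  have hle : Ideal.span {c} * q ≤ Ideal.radical a := by
    rw [Ideal.mul_le]
    intro r hr y hy
    obtain ⟨d, rfl⟩ := Ideal.mem_span_singleton'.1 hr
    rw [mul_assoc, mul_comm c y]
    exact Ideal.mul_mem_left _ _ (hc y fun P hP haP hPq =>
      hq.2 ⟨hP, haP⟩ hPq hy)
  obtain ⟨k, hk⟩ := Ideal.exists_pow_le_of_le_radical_of_fg hle (IsNoetherian.noetherian _)
  have hk' : ∀ y ∈ q ^ k, c ^ k * y ∈ a := fun y hy => hk (by
    rw [mul_pow]
    exact Ideal.mul_mem_mul (Ideal.pow_mem_pow (Ideal.mem_span_singleton_self c) k) hy)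
  set F := f * c ^ k with hF
  have hFq : F ∉ q := fun hmem => (‹q.IsPrime›.mem_or_mem hmem).elim hf
    (fun h' => hcq (‹q.IsPrime›.mem_of_pow_mem k h'))
  obtain ⟨N', hN'⟩ : Killed (a ⊔ Ideal.span {F}) x i M := by
    refine ih _ (lt_of_le_not_ge le_sup_left fun hle' => hFq (haq (hle'
      (Ideal.mem_sup_right (Ideal.mem_span_singleton_self F))))) fun p hp => ?_
    exact (h p hp).trans (add_le_add le_rfl (relHeight_mono p.asIdeal (sup_le_sup_right le_sup_left _)))
  refine ⟨N' + N, fun z => ?_⟩
  obtain ⟨e, w, hw⟩ := exists_smul_eq_hmap haq hk' i (ModuleCat.of S M) z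
  have h0 : ((x * f) ^ N * (c ^ k) ^ e) • z = 0 := by
    rw [mul_smul, ← hw, ← map_smul]
    exact (congrArg _ (hN w)).trans (map_zero _)
  have h1 : x ^ N • z ∈ LinearMap.range (GrothLib.LC.hmap (le_sup_left : a ≤ a ⊔ Ideal.span {F}) i
      (ModuleCat.of S M)).hom := by
    refine (GrothLib.LC.mem_range_hmap_iff a F (ModuleCat.of S M) i _).2 ⟨N + e, ?_⟩
    rw [smul_smul, show F ^ (N + e) * x ^ N = (f ^ e * (c ^ k) ^ N) * ((x * f) ^ N * (c ^ k) ^ e) by
      rw [hF]; ring, mul_smul, h0, smul_zero]
  obtain ⟨y, hy⟩ := h1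
  rw [pow_add, mul_smul, ← hy, ← map_smul, hN', map_zero]

/-- Faltings' theorem for quotients of regular rings. -/
theorem minAdjDepth_le_finDimRel {R : Type u} [CommRing R] [IsNoetherianRing R] (π : S →+* R)
    (hπ : Function.Surjective π) (a b : Ideal R) (M : Type u) [AddCommGroup M] [Module R M]
    [Module.Finite R M] : LocCoh.minAdjDepth a b M ≤ LocCoh.finDimRel a b M := by
  letI := π.toAlgebra
  letI : Module S M := Module.compHom M π
  haveI : IsScalarTower S R M := IsScalarTower.of_algebraMap_smul fun _ _ => rfl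
  haveI : Module.Finite S R := Module.Finite.of_surjective (Algebra.linearMap S R) hπ
  haveI : Module.Finite S M := Module.Finite.trans R M
  refine GrothLib.Depth.le_of_forall_coe_le fun n hn => ?_
  rw [le_finDimRel_iff]
  intro i hi y hy
  obtain ⟨x, rfl⟩ := hπ y
  suffices hK : Killed (a.comap π) x i M by
    have h' := (killed_restrictScalars_iff (R' := R) (I := a.comap π) (x := x) (M := M) (i := i)).2 hK
    rwa [show (a.comap π).map (algebraMap S R) = a from Ideal.map_comap_of_surjective π hπ a] at h'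
  refine killed_of_adjDepth x M i _ fun p hp => ?_
  by_cases hker : RingHom.ker π ≤ p.asIdeal
  swap
  · obtain ⟨r, hr, hrp⟩ := SetLike.not_le_iff_exists.1 hker
    haveI : Subsingleton (LocalizedModule p.asIdeal.primeCompl M) := by
      rw [LocalizedModule.subsingleton_iff]
      exact fun m => ⟨r, hrp, show π r • m = 0 by rw [RingHom.mem_ker.1 hr, zero_smul]⟩
    rw [LocCoh.adjDepth, GrothLib.Depth.depth_eq_top_of_subsingleton, top_add]
    exact le_top
  let p' : PrimeSpectrum R := ⟨_, Ideal.map_isPrime_of_surjective hπ hker⟩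
  haveI : p'.asIdeal.IsPrime := p'.isPrime
  have hpp : p'.asIdeal.comap π = p.asIdeal := comap_map_eq hπ hker
  have hb : ¬ b ≤ p'.asIdeal := fun hle => hp (hpp ▸ (hle hy : π x ∈ p'.asIdeal))
  have h1 : ((i + 1 : ℕ) : ℕ∞) ≤ LocCoh.adjDepth a M p' :=
    le_trans (le_trans (by exact_mod_cast hi) hn) (iInf₂_le p' hb)
  refine h1.trans (add_le_add (le_of_eq ?_) ?_)
  · exact (depth_localization_comap (M := M) (M' := M) p.asIdeal p'.asIdeal hpp LinearMap.id
      (fun z => by
        obtain ⟨r, rfl⟩ := hπ z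
        exact ⟨1, r, p.asIdeal.one_notMem, one_smul _ _⟩)
      (fun z => ⟨1, z, p.asIdeal.one_notMem, one_smul _ _⟩)
      (fun m hm => ⟨1, p.asIdeal.one_notMem, by rw [one_smul]; exact hm⟩)).symm
  · by_cases htop : a.comap π ⊔ p.asIdeal = ⊤
    · rw [htop]
      exact le_top.trans_eq (relHeight_top _).symm
    obtain ⟨q, hq, hh⟩ := exists_minimalPrime_relHeight_eq (a.comap π) p.asIdeal htop
    haveI := hq.isPrime
    have hkq : RingHom.ker π ≤ q := hker.trans (le_trans le_sup_right hq.le)
    haveI := Ideal.map_isPrime_of_surjective hπ hkq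
    have hJ : a ⊔ p'.asIdeal ≤ q.map π := by
      refine sup_le ?_ (Ideal.map_mono (le_trans le_sup_right hq.le))
      rw [← Ideal.map_comap_of_surjective π hπ a]
      exact Ideal.map_mono (le_trans le_sup_left hq.le)
    refine le_trans ?_ hh.le
    refine le_trans (relHeight_mono p'.asIdeal hJ) ?_
    exact relHeight_le_comap π (fun P Q _ _ => comap_le_comap_iff_of_surjective' π hπ P Q) hpp
      (comap_map_eq hπ hkq) (le_trans le_sup_right hJ)

end GrothLib.Faltings
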