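import Groth.Agent.Lib.Faltings.UpperBound

/-! Depths and adjusted depths along localisations and quotients. -/

universe u

open CategoryTheory IsLocalRing

namespace GrothLib.Faltings

/-- Depth along a surjective map of local rings. -/
theorem depth_eq_of_surjective {A A' : Type u} [CommRing A] [CommRing A'] [Algebra A A'] [IsLocalRing A]
    [IsLocalRing A'] [IsNoetherianRing A] [IsNoetherianRing A']
    (hf : Function.Surjective (algebraMap A A'))
    (M : Type u) [AddCommGroup M] [Module A' M] [Module A M] [IsScalarTower A A' M]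
    [Module.Finite A M] [Module.Finite A' M] :
    LocCoh.depth A M = LocCoh.depth A' M := by
  have hmap : (maximalIdeal A).map (algebraMap A A') = maximalIdeal A' :=
    eq_maximalIdeal ((Ideal.map_eq_top_or_isMaximal_of_surjective _ hf (maximalIdeal.isMaximal A)).resolve_left
      fun h => by
        have h1 := Ideal.comap_map_of_surjective _ hf (maximalIdeal A)
        rw [h, Ideal.comap_top, ← RingHom.ker_eq_comap_bot, sup_eq_left.2 (le_maximalIdeal
          (RingHom.ker_ne_top _))] at h1
        exact (maximalIdeal.isMaximal A).ne_top h1.symm)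
  have key : ∀ n : ℕ, (n : ℕ∞) ≤ LocCoh.idealDepth (maximalIdeal A) M ↔
      (n : ℕ∞) ≤ LocCoh.idealDepth (maximalIdeal A') M := fun n => by
    rw [GrothLib.Depth.le_idealDepth_iff_H, GrothLib.Depth.le_idealDepth_iff_H]
    refine forall₂_congr fun i _ => ?_
    rw [← hmap]
    exact (GrothLib.LC.subsingleton_map_iff (R' := A') (maximalIdeal A) i M).symm
  exact le_antisymm (GrothLib.Depth.le_of_forall_coe_le fun n hn => (key n).1 hn)
    (GrothLib.Depth.le_of_forall_coe_le fun n hn => (key n).2 hn)

/-- The depth at a prime upstairs of a map which is locally a surjection. -/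
theorem depth_localization_comap {R R' : Type u} [CommRing R] [CommRing R'] [Algebra R R']
    [IsNoetherianRing R] [IsNoetherianRing R'] {M M' : Type u} [AddCommGroup M] [Module R M]
    [Module.Finite R M] [AddCommGroup M'] [Module R M'] [Module R' M'] [IsScalarTower R R' M']
    [Module.Finite R' M'] (p : Ideal R) [p.IsPrime] (p' : Ideal R') [p'.IsPrime]
    (hp : p'.comap (algebraMap R R') = p) (g : M →ₗ[R] M')
    (hring : ∀ z : R', ∃ t r : R, t ∉ p ∧ t • z = algebraMap R R' r)
    (hsurj : ∀ z : M', ∃ (t : R) (m : M), t ∉ p ∧ t • z = g m)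
    (hker : ∀ m : M, g m = 0 → ∃ t : R, t ∉ p ∧ t • m = 0) :
    LocCoh.depth (Localization.AtPrime p) (LocalizedModule p.primeCompl M) =
      LocCoh.depth (Localization.AtPrime p') (LocalizedModule p'.primeCompl M') := by
  let P := Localization.AtPrime p
  let P' := Localization.AtPrime p'
  haveI : IsNoetherianRing P := GrothLib.Depth.isNoetherian_atPrime p
  haveI : IsNoetherianRing P' := GrothLib.Depth.isNoetherian_atPrime p'
  let N := LocalizedModule p'.primeCompl M'
  have hnp : ∀ {t : R}, t ∉ p → algebraMap R R' t ∉ p' := fun ht h => ht (hp ▸ h)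
  let φ : P →+* P' := Localization.localRingHom p p' (algebraMap R R') hp.symm
  letI : Algebra P P' := φ.toAlgebra
  haveI : IsScalarTower R P P' := IsScalarTower.of_algebraMap_eq fun r => by
    show algebraMap R P' r = φ (algebraMap R P r)
    rw [Localization.localRingHom_to_map]
    exact IsScalarTower.algebraMap_apply R R' P' r
  have hφ : Function.Surjective (algebraMap P P') := by
    intro z
    obtain ⟨⟨a, s⟩, hs⟩ := IsLocalization.surj p'.primeCompl z
    obtain ⟨t, r, ht, hr⟩ := hring a
    obtain ⟨t', r', ht', hr'⟩ := hring s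
    have hr'p : r' ∉ p := fun h => by
      have h1 : algebraMap R R' t' * (s : R') ∈ p' := by
        rw [← Algebra.smul_def, hr']; exact hp.ge h
      exact ((‹p'.IsPrime›).mem_or_mem h1).elim (hnp ht') s.2
    refine ⟨IsLocalization.mk' P (t' * r) (⟨t * r', Submonoid.mul_mem _ ht hr'p⟩ : p.primeCompl), ?_⟩
    have hu : IsUnit (algebraMap R P' (t * r')) :=
      by
        rw [IsScalarTower.algebraMap_apply R R' P']
        exact IsLocalization.map_units P' (⟨_, hnp (Submonoid.mul_mem p.primeCompl ht hr'p)⟩ : p'.primeCompl)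
    refine hu.mul_left_injective ?_
    dsimp only
    rw [IsScalarTower.algebraMap_apply R P P', ← map_mul, IsLocalization.mk'_spec,
      ← IsScalarTower.algebraMap_apply R P P', ← IsScalarTower.algebraMap_apply R P P',
      IsScalarTower.algebraMap_apply R R' P', IsScalarTower.algebraMap_apply R R' P',
      map_mul (algebraMap R R') t' r, map_mul (algebraMap R R') t r', ← hr, ← hr',
      Algebra.smul_def, Algebra.smul_def]
    simp only [map_mul]
    rw [show z * (algebraMap R' P' (algebraMap R R' t) * (algebraMap R' P' (algebraMap R R' t') * algebraMap R' P' s))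
      = algebraMap R' P' (algebraMap R R' t) * algebraMap R' P' (algebraMap R R' t') * (z * algebraMap R' P' s)
      by ring, hs]
    ring
  letI : Module P N := Module.compHom N φ
  haveI : IsScalarTower P P' N := IsScalarTower.of_algebraMap_smul fun _ _ => rfl
  haveI : IsScalarTower R P N := IsScalarTower.of_algebraMap_smul fun r x => by
    show φ (algebraMap R P r) • x = r • x
    rw [Localization.localRingHom_to_map, algebraMap_smul, algebraMap_smul]
  let ι : M →ₗ[R] N := ((LocalizedModule.mkLinearMap p'.primeCompl M').restrictScalars R).comp g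
  haveI : IsLocalizedModule p.primeCompl ι := by
    refine ⟨fun t => ?_, fun z => ?_, fun {m₁ m₂} h => ?_⟩
    · rw [Module.End.isUnit_iff]
      have h1 := (Module.End.isUnit_iff _).1 (IsLocalizedModule.map_units
        (LocalizedModule.mkLinearMap p'.primeCompl M') (⟨_, hnp t.2⟩ : p'.primeCompl))
      convert h1 using 1
      funext x
      exact (algebraMap_smul R' (t : R) x).symm
    · obtain ⟨⟨m', s'⟩, hz⟩ := IsLocalizedModule.surj p'.primeCompl
        (LocalizedModule.mkLinearMap p'.primeCompl M') z
      obtain ⟨t, r, ht, hr⟩ := hring s'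
      obtain ⟨t₁, m, ht₁, hm⟩ := hsurj m'
      have hrp : r ∉ p := fun h => by
        have h1 : algebraMap R R' t * (s' : R') ∈ p' := by
          rw [← Algebra.smul_def, hr]; exact hp.ge h
        exact ((‹p'.IsPrime›).mem_or_mem h1).elim (hnp ht) s'.2
      refine ⟨⟨t • m, ⟨t₁ * r, Submonoid.mul_mem _ ht₁ hrp⟩⟩, ?_⟩
      show (t₁ * r) • z = (LocalizedModule.mkLinearMap p'.primeCompl M') (g (t • m))
      rw [mul_smul, ← algebraMap_smul R' r z, ← hr, smul_assoc, show (s' : R') • z = _ from hz, map_smul,
        ← hm, LinearMap.map_smul_of_tower, LinearMap.map_smul_of_tower, smul_comm]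
    · have h0 : LocalizedModule.mkLinearMap p'.primeCompl M' (g (m₁ - m₂)) = 0 := by
        rw [map_sub, map_sub]; exact sub_eq_zero.2 h
      obtain ⟨s', hs'⟩ := (IsLocalizedModule.eq_zero_iff p'.primeCompl _).1 h0
      obtain ⟨t, r, ht, hr⟩ := hring s'
      have hrp : r ∉ p := fun h => by
        have h1 : algebraMap R R' t * (s' : R') ∈ p' := by
          rw [← Algebra.smul_def, hr]; exact hp.ge h
        exact ((‹p'.IsPrime›).mem_or_mem h1).elim (hnp ht) s'.2
      have h2 : g (r • (m₁ - m₂)) = 0 := by
        rw [map_smul, ← algebraMap_smul R' r, ← hr, smul_assoc]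
        exact smul_eq_zero_of_right t hs'
      obtain ⟨t₂, ht₂, h3⟩ := hker _ h2
      refine ⟨⟨t₂ * r, Submonoid.mul_mem _ ht₂ hrp⟩, ?_⟩
      show (t₂ * r) • m₁ = (t₂ * r) • m₂
      rw [← sub_eq_zero, ← smul_sub, mul_smul, h3]
  let e : LocalizedModule p.primeCompl M ≃ₗ[P] N :=
    LinearEquiv.extendScalarsOfIsLocalization p.primeCompl P
      (IsLocalizedModule.linearEquiv p.primeCompl (LocalizedModule.mkLinearMap p.primeCompl M) ι)
  haveI : Module.Finite P (LocalizedModule p.primeCompl M) :=
    Module.Finite.of_isLocalizedModule p.primeCompl (LocalizedModule.mkLinearMap p.primeCompl M)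
  haveI : Module.Finite P N := Module.Finite.equiv e
  haveI : Module.Finite P' N :=
    Module.Finite.of_isLocalizedModule p'.primeCompl (LocalizedModule.mkLinearMap p'.primeCompl M')
  exact (GrothLib.Depth.idealDepth_eq_of_equiv _ e).trans (depth_eq_of_surjective hφ N)

section

variable {R : Type u} [CommRing R] [IsNoetherianRing R] {M : Type u} [AddCommGroup M] [Module R M]
  [Module.Finite R M]

theorem depth_eq_zero_of_mem_associatedPrimes {P : Ideal R} [P.IsPrime] (h : P ∈ associatedPrimes R M) :
    LocCoh.depth (Localization.AtPrime P) (LocalizedModule P.primeCompl M) = 0 := by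
  haveI := GrothLib.Depth.isNoetherian_atPrime P
  have hm := Module.associatedPrimes.mem_associatedPrimes_atPrime_of_mem_associatedPrimes h
  obtain ⟨-, g, hg⟩ := (isAssociatedPrime_iff_exists_injective_linearMap _ _).1 hm
  haveI : Nontrivial (Localization.AtPrime P ⧸ maximalIdeal (Localization.AtPrime P)) :=
    Ideal.Quotient.nontrivial_iff.2 (maximalIdeal.isMaximal _).ne_top
  haveI : Nontrivial (LocalizedModule P.primeCompl M) := hg.nontrivial
  rw [← ENat.lt_one_iff_eq_zero, ← not_le]
  intro h1
  obtain ⟨z, hz, hreg⟩ := (GrothLib.Depth.one_le_idealDepth_iff (maximalIdeal.isMaximal _).ne_top).1 h1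
  have h0 : g (Submodule.Quotient.mk 1) = 0 := by
    refine IsSMulRegular.right_eq_zero_of_smul hreg ?_
    rw [← map_smul, ← Submodule.Quotient.mk_smul, smul_eq_mul, mul_one,
      (Submodule.Quotient.mk_eq_zero _).2 hz, map_zero]
  exact (maximalIdeal.isMaximal _).ne_top ((Ideal.eq_top_iff_one _).2
    ((Submodule.Quotient.mk_eq_zero _).1 (hg (h0.trans (map_zero g).symm))))

theorem mem_iSup_torsionBy_iff (c : Ideal R) (m : M) :
    m ∈ (⨆ n : ℕ, LocCoh.torsionBy (c ^ n) M) ↔ ∃ n : ℕ, ∀ r ∈ c ^ n, r • m = 0 := by
  rw [Submodule.mem_iSup_of_directed]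
  · simp only [Submodule.mem_torsionBySet_iff, SetLike.coe_sort_coe, Subtype.forall, SetLike.mem_coe]
  · refine Monotone.directed_le fun i j hij => ?_
    exact Submodule.torsionBySet_le_torsionBySet_of_subset (Ideal.pow_le_pow_right hij)

end

end GrothLib.Faltings
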