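import Groth.Agent.Lib.Faltings.ProjKiller
import Groth.Agent.Lib.LC.TopNonzero
import Groth.Agent.Lib.Depth.Semicont

/-! Finiteness of local cohomology in low degrees. -/

universe u

open CategoryTheory Pointwise

namespace GrothLib.Faltings

variable {R : Type u} [CommRing R] [IsNoetherianRing R] {I : Ideal R}

theorem killed_of_finite {M : Type u} [AddCommGroup M] [Module R M] {i : ℕ}
    [Module.Finite R (LocCoh.H I i M)] {x : R} (hx : x ∈ I) : Killed I x i M := by
  obtain ⟨k, hk⟩ := exists_pow_smul_eq_of_fg (x := x) (M := LocCoh.H I i M) (N := ⊤)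
    Module.Finite.fg_top fun z _ => by
      obtain ⟨n, hn⟩ := GrothLib.LC.isPowerTorsion I i (ModuleCat.of R M) z
      exact ⟨n, hn _ (Ideal.pow_mem_pow hx n)⟩
  exact ⟨k, fun z => hk z Submodule.mem_top⟩

theorem finite_H_zero (I : Ideal R) (M : Type u) [AddCommGroup M] [Module R M] [Module.Finite R M] :
    Module.Finite R (LocCoh.H I 0 M) :=
  Module.Finite.equiv (GrothLib.LC.torsionEquiv I (ModuleCat.of R M))

theorem torsionSub_quotient (M : Type u) [AddCommGroup M] [Module R M] :
    DRing.torsionSub I (M ⧸ DRing.torsionSub I M) = ⊥ :=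
  GrothLib.LC.torsionSub_quotient_eq_bot I (IsNoetherian.noetherian I)

theorem killed_quotient_torsion {M : Type u} [AddCommGroup M] [Module R M] [Module.Finite R M] {x : R}
    (hx : x ∈ I) {i : ℕ} (h : Killed I x i M) : Killed I x i (M ⧸ DRing.torsionSub I M) := by
  obtain ⟨k, hk⟩ := exists_pow_smul_eq_of_fg (x := x) (IsNoetherian.noetherian (DRing.torsionSub I M))
    fun m hm => by
      obtain ⟨n, hn⟩ := hm
      exact ⟨n, hn _ (Ideal.pow_mem_pow hx n)⟩
  exact (killed_quotient_iff _ hk i).2 h

/-- Annihilated in degrees `≤ n` implies finite in degree `n`. -/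
theorem finite_of_killed (n : ℕ) : ∀ (M : Type u) [AddCommGroup M] [Module R M] [Module.Finite R M],
    (∀ i ≤ n, ∀ x ∈ I, Killed I x i M) → Module.Finite R (LocCoh.H I n M) := by
  induction n with
  | zero => intro M _ _ _ _; exact finite_H_zero I M
  | succ n ih =>
    intro M _ _ _ h
    suffices Module.Finite R (LocCoh.H I (n + 1) (M ⧸ DRing.torsionSub I M)) from
      Module.Finite.equiv (GrothLib.LC.quotTorsionEquiv I M n).symm
    obtain ⟨y, hyI, hy⟩ := GrothLib.LC.exists_mem_isSMulRegular
      (R := R) (M := M ⧸ DRing.torsionSub I M) (I := I) (torsionSub_quotient M)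
    obtain ⟨k, hk⟩ := killed_quotient_torsion hyI (h (n + 1) le_rfl y hyI)
    have hS := GrothLib.LC.smulSeq_shortExact (hy.pow k)
    haveI : Module.Finite R ((localCohomology I n).obj
        ((ModuleCat.of R (M ⧸ DRing.torsionSub I M)).smulShortComplex (y ^ k)).X₃) :=
      ih (QuotSMulTop (y ^ k) (M ⧸ DRing.torsionSub I M)) fun i hi x hx =>
      Killed.right hS (killed_quotient_torsion hx (h i (by omega) x hx))
        (killed_quotient_torsion hx (h (i + 1) (by omega) x hx))
    refine Module.Finite.of_surjective (GrothLib.LC.δ I hS n) fun z => ?_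
    exact GrothLib.LC.exists_of_map_f_eq_zero I hS n
      ((GrothLib.LC.map_smulShortComplex_f I (y ^ k) _ z).trans (hk z))

theorem exact_map_g_δ {S : ShortComplex (ModuleCat.{u} R)} (hS : S.ShortExact) (i : ℕ) :
    Function.Exact ((localCohomology I i).map S.g).hom (GrothLib.LC.δ I hS i) := fun z =>
  ⟨fun hz => GrothLib.LC.exists_of_δ_eq_zero I hS i hz,
    fun ⟨w, hw⟩ => hw ▸ GrothLib.LC.δ_map_g I hS i w⟩

/-- Finiteness in low degrees is local. -/
theorem finite_of_locally (n : ℕ) : ∀ (M : Type u) [AddCommGroup M] [Module R M] [Module.Finite R M],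
    (∀ (p : Ideal R) [p.IsPrime], ∀ i ≤ n,
      Module.Finite (Localization.AtPrime p) (LocalizedModule p.primeCompl (LocCoh.H I i M))) →
    Module.Finite R (LocCoh.H I n M) := by
  induction n with
  | zero => intro M _ _ _ _; exact finite_H_zero I M
  | succ n ih =>
    intro M₀ _ _ _ h₀
    suffices Module.Finite R (LocCoh.H I (n + 1) (M₀ ⧸ DRing.torsionSub I M₀)) from
      Module.Finite.equiv (GrothLib.LC.quotTorsionEquiv I M₀ n).symm
    let M := M₀ ⧸ DRing.torsionSub I M₀
    have h : ∀ (p : Ideal R) [p.IsPrime], ∀ i ≤ n + 1,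
        Module.Finite (Localization.AtPrime p) (LocalizedModule p.primeCompl (LocCoh.H I i M)) := by
      intro p _ i hi
      rcases i with - | j
      · haveI := finite_H_zero I M
        exact Module.Finite.of_isLocalizedModule p.primeCompl (LocalizedModule.mkLinearMap _ _)
      · haveI := h₀ p (j + 1) hi
        exact Module.Finite.of_surjective
          (LocalizedModule.map p.primeCompl (GrothLib.LC.quotTorsionEquiv I M₀ j).toLinearMap)
          (LocalizedModule.map_surjective _ _ (GrothLib.LC.quotTorsionEquiv I M₀ j).surjective)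
    obtain ⟨y, hyI, hy⟩ := GrothLib.LC.exists_mem_isSMulRegular
      (R := R) (M := M) (I := I) (torsionSub_quotient M₀)
    let H := LocCoh.H I (n + 1) M
    let K : ℕ → Submodule R H := fun j => LinearMap.ker (y ^ j • LinearMap.id : H →ₗ[R] H)
    have hK : ∀ j, Module.Finite R (K j) := by
      intro j
      have hS := GrothLib.LC.smulSeq_shortExact (hy.pow j)
      haveI : Module.Finite R ((localCohomology I n).obj
          ((ModuleCat.of R M).smulShortComplex (y ^ j)).X₃) := ih (QuotSMulTop (y ^ j) M) fun p _ i hi => by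
        haveI := GrothLib.Depth.isNoetherian_atPrime p
        haveI : Module.Finite (Localization.AtPrime p) (LocalizedModule p.primeCompl
            ((localCohomology I i).obj ((ModuleCat.of R M).smulShortComplex (y ^ j)).X₂)) := h p i (by omega)
        haveI : Module.Finite (Localization.AtPrime p) (LocalizedModule p.primeCompl
            ((localCohomology I (i + 1)).obj ((ModuleCat.of R M).smulShortComplex (y ^ j)).X₁)) :=
          h p (i + 1) (by omega)
        let g₁ := LocalizedModule.map p.primeCompl
          ((localCohomology I i).map ((ModuleCat.of R M).smulShortComplex (y ^ j)).g).hom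
        let g₂ := LocalizedModule.map p.primeCompl (GrothLib.LC.δ I hS i)
        have hex : Function.Exact g₁ g₂ := LocalizedModule.map_exact _ _ _ (exact_map_g_δ hS i)
        have hex' : Function.Exact g₁ g₂.rangeRestrict := fun w => by
          rw [← hex w]
          exact Subtype.ext_iff
        exact Module.Finite.of_exact hex' g₂.surjective_rangeRestrict
      refine Module.Finite.of_surjective
        (LinearMap.codRestrict _ (GrothLib.LC.δ I hS n) fun z => ?_) fun w => ?_
      · exact LinearMap.mem_ker.2 ((GrothLib.LC.map_smulShortComplex_f I (y ^ j) _ _).symm.trans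
          (GrothLib.LC.map_f_δ I hS n z))
      · obtain ⟨z, hz⟩ := GrothLib.LC.exists_of_map_f_eq_zero I hS n (x := (w : H))
          ((GrothLib.LC.map_smulShortComplex_f I (y ^ j) _ _).trans (LinearMap.mem_ker.1 w.2))
        exact ⟨z, Subtype.ext hz⟩
    have mem_K : ∀ {j : ℕ} {z : H}, z ∈ K j ↔ y ^ j • z = 0 := fun {_ _} => Iff.rfl
    have hKmono : Monotone K := fun a b hab z hz => by
      obtain ⟨c, rfl⟩ := Nat.exists_eq_add_of_le hab
      rw [mem_K] at hz ⊢
      rw [pow_add, mul_comm, mul_smul, hz, smul_zero]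
    have htor : ∀ z : H, ∃ j, z ∈ K j := fun z => by
      obtain ⟨k, hk⟩ := GrothLib.LC.isPowerTorsion I (n + 1) (ModuleCat.of R M) z
      exact ⟨k, hk _ (Ideal.pow_mem_pow hyI k)⟩
    let D : ℕ → Ideal R := fun j => (K j).colon (K (j + 1) : Set H)
    have mem_D : ∀ {j : ℕ} {r : R}, r ∈ D j ↔ ∀ z ∈ K (j + 1), r • z ∈ K j := fun {_ _} =>
      Submodule.mem_colon
    have hDmono : Monotone D := monotone_nat_of_le_succ fun j r hr => mem_D.2 fun z hz => by
      have h1 := mem_D.1 hr (y • z) (by rw [mem_K, smul_smul, ← pow_succ]; exact hz)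
      rw [mem_K] at h1 ⊢
      rw [pow_succ, mul_smul, smul_comm y r z]
      exact h1
    obtain ⟨j₀, hj₀⟩ := monotone_stabilizes_iff_noetherian.2 (inferInstance : IsNoetherian R R) ⟨D, hDmono⟩
    have htop : D j₀ = ⊤ := by
      by_contra hne
      obtain ⟨p, hp, hle⟩ := Ideal.exists_le_maximal _ hne
      haveI := hp.isPrime
      haveI := GrothLib.Depth.isNoetherian_atPrime p
      obtain ⟨s, hs⟩ := (h p (n + 1) le_rfl).fg_top
      choose m hm using fun z : LocalizedModule p.primeCompl H => IsLocalizedModule.surj p.primeCompl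
        (LocalizedModule.mkLinearMap p.primeCompl H) z
      choose e he using fun z : LocalizedModule p.primeCompl H => htor (m z).1
      let j := max j₀ (s.sup e)
      have hgen : ∀ z : H, ∃ t : R, t ∉ p ∧ t • z ∈ K j := by
        intro z
        have hz : LocalizedModule.mkLinearMap p.primeCompl H z ∈
            Submodule.span (Localization.AtPrime p) (s : Set (LocalizedModule p.primeCompl H)) :=
          hs ▸ Submodule.mem_top
        have hle' : Submodule.span (Localization.AtPrime p) (s : Set (LocalizedModule p.primeCompl H)) ≤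
            Submodule.localized' (Localization.AtPrime p) p.primeCompl
              (LocalizedModule.mkLinearMap p.primeCompl H) (K j) := by
          refine Submodule.span_le.2 fun w hw => ?_
          refine ⟨(m w).1, hKmono ((Finset.le_sup hw).trans (le_max_right _ _)) (he w), (m w).2, ?_⟩
          exact IsLocalizedModule.mk'_eq_iff.2 (hm w).symm
        obtain ⟨m', hm', s', hs'⟩ := hle' hz
        rw [IsLocalizedModule.mk'_eq_iff, Submonoid.smul_def, ← map_smul] at hs'
        obtain ⟨c, hc⟩ := IsLocalizedModule.exists_of_eq (S := p.primeCompl) hs'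
        refine ⟨(c : R) * s', (c * s').2, ?_⟩
        simp only [Submonoid.smul_def] at hc
        rw [mul_smul, ← hc]
        exact Submodule.smul_mem _ _ hm'
      obtain ⟨gs, hgs⟩ := (Module.Finite.iff_fg.1 (hK (j + 1)))
      choose t ht ht' using hgen
      have hT : ∏ g ∈ gs, t g ∈ D j := by
        refine mem_D.2 fun z hz => ?_
        rw [← hgs] at hz
        refine (Submodule.span_le (p := (K j).comap ((∏ g ∈ gs, t g) • LinearMap.id : H →ₗ[R] H))).2 ?_ hz
        intro g hg
        obtain ⟨c, hc⟩ := Finset.dvd_prod_of_mem t hg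
        show (∏ g ∈ gs, t g) • g ∈ K j
        rw [hc, mul_comm, mul_smul]
        exact Submodule.smul_mem _ _ (ht' g)
      have hDj : D j₀ = D j := hj₀ j (le_max_left _ _)
      obtain ⟨g, -, hgp⟩ := hp.isPrime.prod_mem_iff.1 (hle (hDj ▸ hT))
      exact ht g hgp
    have hstab : ∀ j, j₀ ≤ j → K j ≤ K j₀ := by
      intro j hj
      induction j, hj using Nat.le_induction with
      | base => exact le_rfl
      | succ j hj ih' =>
        intro z hz
        refine ih' ?_
        have h1 : (1 : R) ∈ D j := hDmono hj (htop ▸ Submodule.mem_top)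
        simpa using mem_D.1 h1 z hz
    haveI := hK j₀
    refine Module.Finite.of_surjective (K j₀).subtype fun z => ?_
    obtain ⟨j, hj⟩ := htor z
    exact ⟨⟨z, hstab _ (le_max_left j₀ j) (hKmono (le_max_right j₀ j) hj)⟩, rfl⟩

theorem killed_pi {x : R} {i r : ℕ} (h : Killed I x i R) : Killed I x i (Fin r → R) := by
  obtain ⟨k, hk⟩ := h
  refine ⟨k, fun z => ?_⟩
  have hid : ∑ j : Fin r, ModuleCat.ofHom (LinearMap.proj j) ≫
      ModuleCat.ofHom (LinearMap.single R (fun _ => R) j) = 𝟙 (ModuleCat.of R (Fin r → R)) := by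
    refine ModuleCat.hom_ext (LinearMap.ext fun v => ?_)
    simp only [ModuleCat.hom_sum, ModuleCat.hom_comp, ModuleCat.hom_ofHom, LinearMap.coe_comp,
      LinearMap.coe_sum, Finset.sum_apply, Function.comp_apply, LinearMap.proj_apply, ModuleCat.hom_id,
      LinearMap.id_coe, id_eq]
    exact Finset.univ_sum_single v
  rw [← GrothLib.LC.map_id_apply I i z, ← hid, GrothLib.LC.map_sum_apply, Finset.smul_sum]
  refine Finset.sum_eq_zero fun j _ => ?_
  rw [GrothLib.LC.map_comp_apply, ← map_smul]
  exact (congrArg _ (hk _)).trans (map_zero _)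

end GrothLib.Faltings
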