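import Groth.Agent.Lib.Faltings.RelHeight
import Groth.Agent.Lib.Depth.CM
import Mathlib.RingTheory.Ideal.AssociatedPrime.Localization
import Mathlib.Algebra.Module.LocalizedModule.Submodule

/-! Behaviour of relative heights and of localised modules. -/

universe u

namespace GrothLib.Faltings

variable {R R' : Type u} [CommRing R] [CommRing R'] (f : R →+* R') {p : Ideal R} {p' : Ideal R'}

theorem quotientMap_comap_mk (h : p ≤ p'.comap f) (P : Ideal (R' ⧸ p')) :
    (P.comap (Ideal.quotientMap p' f h)).comap (Ideal.Quotient.mk p) =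
      (P.comap (Ideal.Quotient.mk p')).comap f := by
  rw [Ideal.comap_comap, Ideal.comap_comap, Ideal.quotientMap_comp_mk]

/-- Relative heights do not increase along a map which is an order embedding on primes. -/
theorem relHeight_le_comap (hord : ∀ P Q : Ideal R', P.IsPrime → Q.IsPrime →
      P.comap f ≤ Q.comap f → P ≤ Q)
    (hp : p'.comap f = p) [p'.IsPrime] {q : Ideal R} {q' : Ideal R'} (hq : q'.comap f = q)
    [q'.IsPrime] (h : p' ≤ q') :
    relHeight p' q' ≤ relHeight p q := by
  subst hp hq
  haveI := GrothLib.CAux.map_mk_isPrime (s := p') (P := q') h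
  haveI := GrothLib.CAux.map_mk_isPrime (s := p'.comap f) (P := q'.comap f) (Ideal.comap_mono h)
  let φ := Ideal.quotientMap p' f (le_refl (p'.comap f))
  let g : PrimeSpectrum (R' ⧸ p') → PrimeSpectrum (R ⧸ p'.comap f) := PrimeSpectrum.comap φ
  have hg : StrictMono g := fun a b hab => by
    refine lt_of_le_not_ge (Ideal.comap_mono hab.le) fun hle => hab.not_ge ?_
    have h1 := Ideal.comap_mono (f := Ideal.Quotient.mk (p'.comap f)) hle
    rw [show (g b).asIdeal = b.asIdeal.comap φ from rfl, show (g a).asIdeal = a.asIdeal.comap φ from rfl,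
      quotientMap_comap_mk, quotientMap_comap_mk] at h1
    have h2 := hord _ _ inferInstance inferInstance h1
    have h3 := Ideal.map_mono (f := Ideal.Quotient.mk p') h2
    rwa [Ideal.map_comap_of_surjective _ Ideal.Quotient.mk_surjective,
      Ideal.map_comap_of_surjective _ Ideal.Quotient.mk_surjective] at h3
  let x : PrimeSpectrum (R' ⧸ p') := ⟨q'.map (Ideal.Quotient.mk p'), inferInstance⟩
  have hgx : g x = ⟨(q'.comap f).map (Ideal.Quotient.mk _), inferInstance⟩ := by
    refine PrimeSpectrum.ext (Ideal.comap_injective_of_surjective _ Ideal.Quotient.mk_surjective ?_)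
    show (x.asIdeal.comap φ).comap _ = _
    rw [quotientMap_comap_mk, comap_map_eq Ideal.Quotient.mk_surjective (by rw [Ideal.mk_ker]; exact h),
      comap_map_eq Ideal.Quotient.mk_surjective (by rw [Ideal.mk_ker]; exact Ideal.comap_mono h)]
  show x.asIdeal.height ≤ (⟨(q'.comap f).map (Ideal.Quotient.mk _), inferInstance⟩ :
    PrimeSpectrum (R ⧸ p'.comap f)).asIdeal.height
  rw [PrimeSpectrum.height_eq_orderHeight, PrimeSpectrum.height_eq_orderHeight, ← hgx]
  exact Order.height_le_height_apply_of_strictMono g hg x

/-- Relative heights do not decrease if the primes in between lift. -/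
theorem relHeight_comap_le (hord : ∀ P Q : Ideal R', P.IsPrime → Q.IsPrime →
      P.comap f ≤ Q.comap f → P ≤ Q)
    (hp : p'.comap f = p) [p'.IsPrime] {q : Ideal R} {q' : Ideal R'} (hq : q'.comap f = q)
    [q'.IsPrime] (h : p' ≤ q')
    (hlift : ∀ t : Ideal R, t.IsPrime → p ≤ t → t ≤ q → ∃ t' : Ideal R', t'.IsPrime ∧ t'.comap f = t) :
    relHeight p q ≤ relHeight p' q' := by
  haveI hpp : p.IsPrime := hp ▸ inferInstance
  haveI hqp : q.IsPrime := hq ▸ inferInstance
  have hpq : p ≤ q := by rw [← hp, ← hq]; exact Ideal.comap_mono h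
  haveI := GrothLib.CAux.map_mk_isPrime (s := p') (P := q') h
  haveI := GrothLib.CAux.map_mk_isPrime (s := p) (P := q) hpq
  let x : PrimeSpectrum (R ⧸ p) := ⟨q.map (Ideal.Quotient.mk p), inferInstance⟩
  let x' : PrimeSpectrum (R' ⧸ p') := ⟨q'.map (Ideal.Quotient.mk p'), inferInstance⟩
  show x.asIdeal.height ≤ x'.asIdeal.height
  rw [PrimeSpectrum.height_eq_orderHeight, PrimeSpectrum.height_eq_orderHeight]
  refine Order.height_le fun l hl => ?_
  have hle : ∀ i, l i ≤ x := fun i => hl ▸ l.monotone (Fin.le_last i)
  have hup : ∀ i, p ≤ (l i).asIdeal.comap (Ideal.Quotient.mk p) := fun i =>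
    (le_of_eq Ideal.mk_ker.symm).trans ((RingHom.ker_eq_comap_bot _).le.trans (Ideal.comap_mono bot_le))
  have hdown : ∀ i, (l i).asIdeal.comap (Ideal.Quotient.mk p) ≤ q := fun i =>
    (Ideal.comap_mono (hle i)).trans (le_of_eq
      (comap_map_eq Ideal.Quotient.mk_surjective (by rw [Ideal.mk_ker]; exact hpq)))
  choose t' ht' htf using fun i => hlift _ inferInstance (hup i) (hdown i)
  have hpt : ∀ i, p' ≤ t' i := fun i =>
    hord _ _ inferInstance (ht' i) (by rw [hp, htf]; exact hup i)
  let F : Fin (l.length + 1) → PrimeSpectrum (R' ⧸ p') := fun i =>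
    haveI := ht' i
    ⟨(t' i).map (Ideal.Quotient.mk p'), GrothLib.CAux.map_mk_isPrime (hpt i)⟩
  have hF : StrictMono F := fun i j hij => by
    haveI := ht' i
    haveI := ht' j
    have hlt := l.strictMono hij
    have h1 : t' i ≤ t' j := hord _ _ (ht' i) (ht' j) (by
      rw [htf, htf]; exact Ideal.comap_mono hlt.le)
    refine GrothLib.CAux.map_mk_lt (hpt i) (lt_of_le_of_ne h1 fun he => hlt.ne ?_)
    refine PrimeSpectrum.ext (Ideal.comap_injective_of_surjective _ Ideal.Quotient.mk_surjective ?_)
    rw [← htf, ← htf, he]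
  refine Order.length_le_height (p := LTSeries.mk l.length F hF) ?_
  refine Ideal.map_mono (hord _ _ (ht' _) inferInstance ?_)
  rw [htf, hq]
  exact hdown _

theorem comap_le_comap_iff_of_surjective' (hf : Function.Surjective f) (P Q : Ideal R') :
    P.comap f ≤ Q.comap f → P ≤ Q := fun h => by
  have := Ideal.map_mono (f := f) h
  rwa [Ideal.map_comap_of_surjective _ hf, Ideal.map_comap_of_surjective _ hf] at this

theorem comap_le_comap_localization (S : Submonoid R) (P Q : Ideal (Localization S))
    (h : P.comap (algebraMap R (Localization S)) ≤ Q.comap (algebraMap R (Localization S))) : P ≤ Q := by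
  rw [← IsLocalization.map_comap S (Localization S) P, ← IsLocalization.map_comap S (Localization S) Q]
  exact Ideal.map_mono h

theorem exists_prime_comap_localization (S : Submonoid R) (t : Ideal R) [ht : t.IsPrime]
    (hd : Disjoint (S : Set R) t) :
    ∃ t' : Ideal (Localization S), t'.IsPrime ∧ t'.comap (algebraMap R (Localization S)) = t :=
  ⟨t.map (algebraMap R (Localization S)), IsLocalization.isPrime_of_isPrime_disjoint S _ t ht hd,
    IsLocalization.under_map_of_isPrime_disjoint S _ ht hd⟩

theorem disjoint_primeCompl {t q : Ideal R} [q.IsPrime] (h : t ≤ q) :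
    Disjoint (q.primeCompl : Set R) t :=
  Set.disjoint_left.2 fun _ ha hat => ha (h hat)

/-- Localising at `q` keeps the relative height of primes below `q`. -/
theorem relHeight_atPrime (p t q : Ideal R) [p.IsPrime] [t.IsPrime] [q.IsPrime] (hpt : p ≤ t) (htq : t ≤ q) :
    relHeight (p.map (algebraMap R (Localization.AtPrime q)))
      (t.map (algebraMap R (Localization.AtPrime q))) = relHeight p t := by
  haveI := IsLocalization.isPrime_of_isPrime_disjoint q.primeCompl (Localization.AtPrime q) p ‹_›
    (disjoint_primeCompl (hpt.trans htq))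
  haveI := IsLocalization.isPrime_of_isPrime_disjoint q.primeCompl (Localization.AtPrime q) t ‹_›
    (disjoint_primeCompl htq)
  have h1 := IsLocalization.under_map_of_isPrime_disjoint q.primeCompl (Localization.AtPrime q)
    ‹p.IsPrime› (disjoint_primeCompl (hpt.trans htq))
  have h2 := IsLocalization.under_map_of_isPrime_disjoint q.primeCompl (Localization.AtPrime q)
    ‹t.IsPrime› (disjoint_primeCompl htq)
  exact le_antisymm
    (relHeight_le_comap _ (fun P Q _ _ => comap_le_comap_localization _ P Q) h1 h2 (Ideal.map_mono hpt))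
    (relHeight_comap_le _ (fun P Q _ _ => comap_le_comap_localization _ P Q) h1 h2 (Ideal.map_mono hpt)
      fun s _ _ hst => exists_prime_comap_localization _ s (disjoint_primeCompl (hst.trans htq)))

/-- The associated prime `p` of `M` stays associated in the localisation. -/
theorem mem_associatedPrimes_localization {M : Type u} [AddCommGroup M] [Module R M] (S : Submonoid R)
    {p : Ideal R} (hp : p ∈ associatedPrimes R M) (hd : Disjoint (S : Set R) p) :
    p.map (algebraMap R (Localization S)) ∈ associatedPrimes (Localization S) (LocalizedModule S M) := by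
  refine Module.associatedPrimes.mem_associatedPrimes_of_comap_mem_associatedPrimes_of_isLocalizedModule
    S (LocalizedModule.mkLinearMap S M) _ ?_
  haveI := hp.isPrime
  rwa [show (p.map (algebraMap R (Localization S))).comap (algebraMap R (Localization S)) = p from
    IsLocalization.under_map_of_isPrime_disjoint S _ hp.isPrime hd]

theorem bijective_map_mkQ {M : Type u} [AddCommGroup M] [Module R M] (S : Submonoid R)
    (N : Submodule R M) (h : ∀ m ∈ N, ∃ s ∈ S, s • m = 0) :
    Function.Bijective (LocalizedModule.map S N.mkQ) := by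
  refine ⟨?_, LocalizedModule.map_surjective _ _ N.mkQ_surjective⟩
  rw [← LinearMap.ker_eq_bot, eq_bot_iff]
  intro z hz
  induction z using LocalizedModule.induction_on with
  | h m s =>
    rw [LinearMap.mem_ker, LocalizedModule.map_mk] at hz
    obtain ⟨u, hu⟩ := LocalizedModule.mk_eq.1 (hz.trans (LocalizedModule.zero_mk 1).symm)
    simp only [Submonoid.smul_def, OneMemClass.coe_one, one_smul, smul_zero] at hu
    obtain ⟨v, hv, hv'⟩ := h _ ((Submodule.Quotient.mk_eq_zero N).1
      (show N.mkQ ((u : R) • m) = 0 by rw [map_smul]; exact hu))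
    rw [Submodule.mem_bot, ← LocalizedModule.zero_mk (1 : S), LocalizedModule.mk_eq]
    exact ⟨⟨v * u, S.mul_mem hv u.2⟩, by simp [Submonoid.smul_def, mul_smul, hv']⟩

end GrothLib.Faltings
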