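import Groth.Agent.Lib.Faltings.Killed
import Groth.Agent.Lib.Faltings.Localize
import Groth.Agent.Lib.Depth.Semicont
import Groth.Agent.Lib.LC.TopNonzero
import Groth.Agent.Lib.LC.Vanish
import Groth.Agent.S11650

/-! `finDimRel ≤ minAdjDepth`: the elementary inequality of Faltings' annihilator theorem. -/

universe u

open CategoryTheory IsLocalRing Pointwise

namespace GrothLib.Faltings

variable {R : Type u} [CommRing R] [IsNoetherianRing R]

theorem exists_depth_eq (p : Ideal R) [p.IsPrime] (M : Type u) [AddCommGroup M] [Module R M]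
    [Module.Finite R M] [Nontrivial (LocalizedModule p.primeCompl M)] :
    ∃ n : ℕ, LocCoh.depth (Localization.AtPrime p) (LocalizedModule p.primeCompl M) = n := by
  haveI := GrothLib.Depth.isNoetherian_atPrime p
  obtain ⟨n, hn⟩ := ENat.ne_top_iff_exists.1 (GrothLib.Depth.idealDepth_ne_top
    (M := LocalizedModule p.primeCompl M) (maximalIdeal.isMaximal (Localization.AtPrime p)).ne_top)
  exact ⟨n, hn.symm⟩

omit [IsNoetherianRing R] in
theorem nontrivial_of_depth_eq {p : Ideal R} [p.IsPrime] {M : Type u} [AddCommGroup M] [Module R M]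
    {n : ℕ} (h : LocCoh.depth (Localization.AtPrime p) (LocalizedModule p.primeCompl M) = n) :
    Nontrivial (LocalizedModule p.primeCompl M) := by
  by_contra hc
  rw [not_nontrivial_iff_subsingleton] at hc
  rw [GrothLib.Depth.depth_eq_top_of_subsingleton] at h
  exact ENat.natCast_ne_top n h.symm

omit [IsNoetherianRing R] in
theorem nontrivial_localized_mono {p q : Ideal R} [p.IsPrime] [q.IsPrime] (h : p ≤ q)
    {M : Type u} [AddCommGroup M] [Module R M] [Nontrivial (LocalizedModule p.primeCompl M)] :
    Nontrivial (LocalizedModule q.primeCompl M) := by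
  by_contra hc
  rw [not_nontrivial_iff_subsingleton, LocalizedModule.subsingleton_iff] at hc
  have : Subsingleton (LocalizedModule p.primeCompl M) := by
    rw [LocalizedModule.subsingleton_iff]
    intro m
    obtain ⟨r, hr, hr'⟩ := hc m
    exact ⟨r, fun h' => hr (h h'), hr'⟩
  exact not_subsingleton (LocalizedModule p.primeCompl M) this

/-- At a prime containing `a` but not `x`. -/
theorem exists_not_killed_at (a : Ideal R) {x : R} (q : Ideal R) [q.IsPrime] (ha : a ≤ q) (hx : x ∉ q)
    (M : Type u) [AddCommGroup M] [Module R M] [Module.Finite R M]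
    [Nontrivial (LocalizedModule q.primeCompl M)] :
    ∃ t : ℕ, (t : ℕ∞) ≤ LocCoh.depth (Localization.AtPrime q) (LocalizedModule q.primeCompl M) ∧
      ¬ Killed (a.map (algebraMap R (Localization.AtPrime q))) (algebraMap R (Localization.AtPrime q) x) t
        (LocalizedModule q.primeCompl M) := by
  haveI := GrothLib.Depth.isNoetherian_atPrime q
  have hle : a.map (algebraMap R (Localization.AtPrime q)) ≤ maximalIdeal (Localization.AtPrime q) := by
    rw [← Localization.AtPrime.map_eq_maximalIdeal]; exact Ideal.map_mono ha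
  obtain ⟨t, ht⟩ := ENat.ne_top_iff_exists.1 (GrothLib.Depth.idealDepth_ne_top
    (M := LocalizedModule q.primeCompl M) (I := a.map (algebraMap R (Localization.AtPrime q)))
    fun h => (maximalIdeal.isMaximal _).ne_top (top_le_iff.1 (h.ge.trans hle)))
  refine ⟨t, ht.le.trans (GrothLib.Depth.idealDepth_mono hle), ?_⟩
  rintro ⟨k, hk⟩
  refine ((GrothLib.Depth.idealDepth_ne_top_iff_aux _
    (GrothLib.Depth.le_idealDepth_iff_H _) t).1 ht.symm).2 (subsingleton_of_forall_eq 0 fun z => ?_)
  exact ((IsLocalization.map_units (Localization.AtPrime q)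
    (⟨x, hx⟩ : q.primeCompl)).pow k).smul_eq_zero.1 (hk z)

/-- The case of an associated prime of relative height one in a local ring. -/
theorem not_killed_one_local {A : Type u} [CommRing A] [IsNoetherianRing A] [IsLocalRing A]
    {a : Ideal A} {x : A} {M : Type u} [AddCommGroup M] [Module A M] [Module.Finite A M]
    (p : Ideal A) [p.IsPrime] (hp : p ∈ associatedPrimes A M) (hx : x ∉ p) (ha : a ≤ maximalIdeal A)
    (hap : ¬ a ≤ p) (hdim : relHeight p (maximalIdeal A) = 1) : ¬ Killed a x 1 M := by
  rintro ⟨k, hk⟩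
  obtain ⟨a₀, ha₀, ha₀p⟩ := SetLike.not_le_iff_exists.1 hap
  have hreg : ∀ c : A, c ∉ p → IsSMulRegular (A ⧸ p) c := fun c hc => by
    rw [isSMulRegular_iff_right_eq_zero_of_smul]
    intro m hm
    obtain ⟨m, rfl⟩ := Submodule.Quotient.mk_surjective _ m
    rw [← Submodule.Quotient.mk_smul, Submodule.Quotient.mk_eq_zero, smul_eq_mul] at hm
    exact (Submodule.Quotient.mk_eq_zero _).2 ((‹p.IsPrime›.mem_or_mem hm).resolve_left hc)
  haveI : Nontrivial (A ⧸ p) := Ideal.Quotient.nontrivial_iff.2 ‹p.IsPrime›.ne_top
  have hsupp : Module.supportDim A (A ⧸ p) = 1 := by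
    haveI : IsLocalRing (A ⧸ p) := IsLocalRing.of_surjective' _ Ideal.Quotient.mk_surjective
    have hm : (maximalIdeal A).map (Ideal.Quotient.mk p) = maximalIdeal (A ⧸ p) :=
      IsLocalRing.eq_maximalIdeal ((Ideal.map_eq_top_or_isMaximal_of_surjective _
        Ideal.Quotient.mk_surjective (maximalIdeal.isMaximal A)).resolve_left fun h => by
          have := comap_map_eq (f := Ideal.Quotient.mk p) Ideal.Quotient.mk_surjective
            (q := maximalIdeal A) (by rw [Ideal.mk_ker]; exact le_maximalIdeal ‹p.IsPrime›.ne_top)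
          rw [h, Ideal.comap_top] at this
          exact (maximalIdeal.isMaximal A).ne_top this.symm)
    rw [Module.supportDim_quotient_eq_ringKrullDim, ← IsLocalRing.maximalIdeal_height_eq_ringKrullDim,
      ← hm, show ((maximalIdeal A).map (Ideal.Quotient.mk p)).height = 1 from hdim]
    rfl
  have hne : ¬ Subsingleton (LocCoh.H a 1 (A ⧸ p)) := fun hs => by
    have h0 : Subsingleton (LocCoh.H a 0 (A ⧸ p)) := by
      refine GrothLib.LC.subsingleton_H_zero_of_torsionSub_eq_bot ?_
      rw [eq_bot_iff]
      rintro m ⟨n, hn⟩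
      exact (Submodule.mem_bot _).2 (isSMulRegular_iff_right_eq_zero_of_smul.1
        ((hreg a₀ ha₀p).pow n) m (hn _ (Ideal.pow_mem_pow ha₀ n)))
    have h2 : ((2 : ℕ) : ℕ∞) ≤ LocCoh.idealDepth a (A ⧸ p) :=
      (GrothLib.Depth.le_idealDepth_iff_H a 2).2 fun i hi => by interval_cases i <;> assumption
    have h3 := (WithBot.coe_le_coe.2 (h2.trans (GrothLib.Depth.idealDepth_mono ha))).trans
      (GrothLib.Depth.depth_le_supportDim A (A ⧸ p))
    rw [hsupp, ← WithBot.coe_one, WithBot.coe_le_coe] at h3
    exact absurd h3 (by decide)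
  have hsurj : ∀ c : A, c ∉ p → Function.Surjective fun z : LocCoh.H a 1 (A ⧸ p) => c • z := by
    intro c hc z
    by_cases hcm : c ∈ maximalIdeal A
    · have hS := GrothLib.LC.smulSeq_shortExact (hreg c hc)
      have h3 : Subsingleton (LocCoh.H a 1 (QuotSMulTop c (A ⧸ p))) := by
        refine GrothLib.LC.subsingleton_of_supportDim_lt 1 A a _ ?_
        have h := GrothLib.LC.supportDim_quotSMulTop_add_one hcm (hreg c hc)
        rw [hsupp] at h
        generalize Module.supportDim A (QuotSMulTop c (A ⧸ p)) = d at h ⊢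
        induction d using WithBot.recBotCoe with
        | bot => exact WithBot.bot_lt_coe _
        | coe d =>
          rw [← WithBot.coe_one, ← WithBot.coe_add, WithBot.coe_inj] at h
          rw [Nat.cast_one, ← WithBot.coe_one, WithBot.coe_lt_coe]
          exact ENat.lt_add_one_iff (fun hd => by simp [hd] at h) |>.2 le_rfl |>.trans_eq h
      obtain ⟨y, hy⟩ := GrothLib.LC.exists_of_map_g_eq_zero a hS 1 (x := z) (@Subsingleton.elim _ h3 _ _)
      exact ⟨y, by rw [← hy]; exact (GrothLib.LC.map_smulShortComplex_f a c 1 y).symm⟩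
    · obtain ⟨w, hw⟩ := (notMem_maximalIdeal.1 hcm).exists_right_inv
      exact ⟨w • z, by simp only [smul_smul, hw, one_smul]⟩
  obtain ⟨-, f, hf⟩ := (isAssociatedPrime_iff_exists_injective_linearMap _ _).1 hp
  let S : ShortComplex (ModuleCat.{u} A) := ShortComplex.mk (X₁ := ModuleCat.of A (A ⧸ p))
    (X₂ := ModuleCat.of A M) (ModuleCat.ofHom f) (ModuleCat.ofHom (LinearMap.range f).mkQ)
    (ModuleCat.hom_ext (LinearMap.ext fun y =>
      (Submodule.Quotient.mk_eq_zero _).2 (LinearMap.mem_range_self f y)))
  have hS : S.ShortExact :=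
    { exact := (ShortComplex.moduleCat_exact_iff _).2 fun y hy => (Submodule.Quotient.mk_eq_zero _).1 hy
      mono_f := (ModuleCat.mono_iff_injective _).2 hf
      epi_g := (ModuleCat.epi_iff_surjective _).2 (Submodule.mkQ_surjective _) }
  haveI : Module.Finite A (LocCoh.H a 0 (M ⧸ LinearMap.range f)) :=
    Module.Finite.equiv (GrothLib.LC.torsionEquiv a (ModuleCat.of A (M ⧸ LinearMap.range f)))
  have hδ : Function.Surjective (GrothLib.LC.δ a hS 0) := fun z => by
    obtain ⟨w, hw⟩ := hsurj (x ^ k) (fun h => hx (‹p.IsPrime›.mem_of_pow_mem k h)) z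
    have h0 : (localCohomology a (0 + 1)).map S.f z = 0 := by
      rw [← hw]
      exact (map_smul _ _ _).trans (hk _)
    exact GrothLib.LC.exists_of_map_f_eq_zero a hS 0 h0
  haveI : Module.Finite A (LocCoh.H a 1 (A ⧸ p)) := Module.Finite.of_surjective _ hδ
  obtain ⟨c, hcm, hcp⟩ := SetLike.not_le_iff_exists.1 fun h : maximalIdeal A ≤ p => hap (ha.trans h)
  refine hne (subsingleton_of_forall_eq 0 fun z => ?_)
  have htop : (⊤ : Submodule A (LocCoh.H a 1 (A ⧸ p))) ≤ maximalIdeal A • ⊤ := fun y _ => by
    obtain ⟨w, rfl⟩ := hsurj c hcp y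
    exact Submodule.smul_mem_smul hcm Submodule.mem_top
  have := Submodule.eq_bot_of_le_smul_of_le_jacobson_bot (maximalIdeal A) ⊤ Module.Finite.fg_top htop
    (maximalIdeal_le_jacobson _)
  exact (Submodule.mem_bot A).1 (this ▸ Submodule.mem_top)

theorem mem_associatedPrimes_of_depth_zero (p : Ideal R) [p.IsPrime] {M : Type u} [AddCommGroup M]
    [Module R M] [Module.Finite R M]
    (h : LocCoh.depth (Localization.AtPrime p) (LocalizedModule p.primeCompl M) = 0) :
    p ∈ associatedPrimes R M := by
  haveI := GrothLib.Depth.isNoetherian_atPrime p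
  haveI := nontrivial_of_depth_eq (n := 0) (M := M) (by simpa using h)
  obtain ⟨P, hP, hle⟩ := GrothLib.Depth.exists_associatedPrime_ge (maximalIdeal.isMaximal _).ne_top
    (M := LocalizedModule p.primeCompl M) (fun h1 => absurd (h1.trans h.le) (by simp))
  rw [← (maximalIdeal.isMaximal _).eq_of_le hP.isPrime.ne_top hle] at hP
  have := Module.associatedPrimes.comap_mem_associatedPrimes_of_mem_associatedPrimes_of_isLocalizedModule_of_fg
    p.primeCompl (LocalizedModule.mkLinearMap p.primeCompl M) _ hP (IsNoetherian.noetherian _)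
  change Ideal.under R _ ∈ _ at this
  rwa [Localization.AtPrime.under_maximalIdeal] at this

theorem eq_or_eq_of_between {p q P : Ideal R} [p.IsPrime] [q.IsPrime] [P.IsPrime]
    (h : relHeight p q = 1) (hpP : p ≤ P) (hPq : P ≤ q) : P = p ∨ P = q := by
  by_contra hc
  simp only [not_or] at hc
  have := relHeight_add_le p P q hpP hPq
  rw [h] at this
  have h2 : (2 : ℕ∞) ≤ 1 := by
    refine le_trans ?_ this
    rw [← one_add_one_eq_two]
    exact add_le_add (one_le_relHeight _ _ (lt_of_le_of_ne hpP (Ne.symm hc.1)))
      (one_le_relHeight _ _ (lt_of_le_of_ne hPq hc.2))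
  exact absurd h2 (by decide)

/-- The case of relative height one. -/
theorem exists_not_killed_height_one (a : Ideal R) {x : R} (p q : Ideal R) [p.IsPrime] [q.IsPrime]
    (hpq : p ≤ q) (ha : a ≤ q) (hap : ¬ a ≤ p) (hh : relHeight p q = 1) (hx : x ∉ p) :
    ∀ (n : ℕ) (M : Type u) [AddCommGroup M] [Module R M] [Module.Finite R M],
      LocCoh.depth (Localization.AtPrime p) (LocalizedModule p.primeCompl M) = n →
      ∃ i, i ≤ n + 1 ∧ ¬ Killed (a.map (algebraMap R (Localization.AtPrime q)))
        (algebraMap R (Localization.AtPrime q) x) i (LocalizedModule q.primeCompl M) := by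
  haveI := GrothLib.Depth.isNoetherian_atPrime q
  haveI := GrothLib.Depth.isNoetherian_atPrime p
  intro n
  induction n with
  | zero =>
    intro M _ _ _ hn
    refine ⟨1, by omega, ?_⟩
    have hp := mem_associatedPrimes_of_depth_zero p (M := M) (by simpa using hn)
    have hd := disjoint_primeCompl hpq
    haveI := IsLocalization.isPrime_of_isPrime_disjoint q.primeCompl (Localization.AtPrime q) p ‹_› hd
    have hc : (p.map (algebraMap R (Localization.AtPrime q))).comap (algebraMap R (Localization.AtPrime q)) = p :=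
      IsLocalization.under_map_of_isPrime_disjoint q.primeCompl _ ‹p.IsPrime› hd
    refine not_killed_one_local (p.map (algebraMap R (Localization.AtPrime q)))
      (mem_associatedPrimes_localization q.primeCompl hp hd) (fun h => hx (hc ▸ h)) ?_
      (fun h => hap ((Ideal.le_comap_map).trans ((Ideal.comap_mono h).trans hc.le))) ?_
    · rw [← Localization.AtPrime.map_eq_maximalIdeal]; exact Ideal.map_mono ha
    · rw [← Localization.AtPrime.map_eq_maximalIdeal, relHeight_atPrime p q q hpq le_rfl, hh]
  | succ n ih =>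
    intro M _ _ _ hn
    haveI := nontrivial_of_depth_eq hn
    haveI := nontrivial_localized_mono hpq (M := M)
    by_cases hxq : x ∈ q
    swap
    · obtain ⟨t, ht, hk⟩ := exists_not_killed_at a q ha hxq M
      refine ⟨t, ?_, hk⟩
      have h := ht.trans (Groth.Agent.S11650.result R M p q hpq)
      rw [hn, show (q.map (Ideal.Quotient.mk p)).height = 1 from hh] at h
      exact_mod_cast h
    let N := DRing.torsionSub (Ideal.span {x}) M
    obtain ⟨k, hk⟩ : ∃ k : ℕ, ∀ m ∈ N, x ^ k • m = 0 := exists_pow_smul_eq_of_fg (IsNoetherian.noetherian N)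
      fun m hm => (GrothLib.LC.mem_torsionSub_span_singleton_iff x m).1 hm
    let M' := M ⧸ N
    have hxM' : ∀ m : M', x • m = 0 → m = 0 := by
      intro m hm
      obtain ⟨m, rfl⟩ := Submodule.Quotient.mk_surjective N m
      rw [← Submodule.Quotient.mk_smul, Submodule.Quotient.mk_eq_zero] at hm
      refine (Submodule.Quotient.mk_eq_zero N).2 ((GrothLib.LC.mem_torsionSub_span_singleton_iff x m).2
        ⟨k + 1, ?_⟩)
      rw [pow_succ, mul_smul, hk _ hm]
    let ep : LocalizedModule p.primeCompl M ≃ₗ[Localization.AtPrime p] LocalizedModule p.primeCompl M' :=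
      LinearEquiv.ofBijective (LocalizedModule.map p.primeCompl N.mkQ)
        (bijective_map_mkQ _ N fun m hm => ⟨x ^ k, fun h => hx (‹p.IsPrime›.mem_of_pow_mem k h), hk m hm⟩)
    have hn' : LocCoh.depth (Localization.AtPrime p) (LocalizedModule p.primeCompl M') = (n + 1 : ℕ) := by
      rw [← hn]; exact (GrothLib.Depth.idealDepth_eq_of_equiv _ ep).symm
    haveI := nontrivial_of_depth_eq hn'
    obtain ⟨y, hyp, hy⟩ := GrothLib.LC.exists_mem_forall_notMem (I := p)
      (S := {P | P ∈ associatedPrimes R M' ∧ P ≤ q}) ((associatedPrimes.finite R M').subset fun P hP => hP.1)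
      (fun P hP => hP.1.isPrime) (fun P hP hpP => by
        haveI := hP.1.isPrime
        rcases eq_or_eq_of_between hh hpP hP.2 with rfl | rfl
        · haveI : Nontrivial (LocalizedModule P.primeCompl M') := inferInstance
          have h1 : ¬ 1 ≤ LocCoh.idealDepth (maximalIdeal (Localization.AtPrime P))
              (LocalizedModule P.primeCompl M') := fun h1 => by
            obtain ⟨z, hz, hreg⟩ := (GrothLib.Depth.one_le_idealDepth_iff
              (maximalIdeal.isMaximal _).ne_top).1 h1
            have hm := Module.associatedPrimes.mem_associatedPrimes_atPrime_of_mem_associatedPrimes hP.1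
            obtain ⟨-, g, hg⟩ := (isAssociatedPrime_iff_exists_injective_linearMap _ _).1 hm
            have h0 : g (Submodule.Quotient.mk 1) = 0 := by
              refine isSMulRegular_iff_right_eq_zero_of_smul.1 hreg _ ?_
              rw [← map_smul, ← Submodule.Quotient.mk_smul, smul_eq_mul, mul_one,
                (Submodule.Quotient.mk_eq_zero _).2 hz, map_zero]
            exact (maximalIdeal.isMaximal _).ne_top ((Ideal.eq_top_iff_one _).2
              ((Submodule.Quotient.mk_eq_zero _).1 (hg (h0.trans (map_zero g).symm))))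
          rw [LocCoh.depth] at hn'
          exact h1 (hn' ▸ by simp)
        · obtain ⟨-, g, hg⟩ := (isAssociatedPrime_iff_exists_injective_linearMap _ _).1 hP.1
          have h0 : g (Submodule.Quotient.mk 1) = 0 := by
            refine hxM' _ ?_
            rw [← map_smul, ← Submodule.Quotient.mk_smul, smul_eq_mul, mul_one,
              (Submodule.Quotient.mk_eq_zero _).2 hxq, map_zero]
          exact hP.1.isPrime.ne_top ((Ideal.eq_top_iff_one _).2
            ((Submodule.Quotient.mk_eq_zero _).1 (hg (h0.trans (map_zero g).symm)))))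
    have hregq : ∀ (P : Ideal R) [P.IsPrime], P ≤ q →
        IsSMulRegular (LocalizedModule P.primeCompl M') (algebraMap R (Localization.AtPrime P) y) := by
      intro P _ hPq
      haveI := GrothLib.Depth.isNoetherian_atPrime P
      refine IsSMulRegular.of_right_eq_zero_of_smul (R := Localization.AtPrime P) (M := LocalizedModule P.primeCompl M') fun z hz => ?_
      by_contra hz0
      have hmem : algebraMap R (Localization.AtPrime P) y ∈ ⋃ Q ∈ associatedPrimes (Localization.AtPrime P)
          (LocalizedModule P.primeCompl M'), (Q : Set (Localization.AtPrime P)) := by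
        rw [biUnion_associatedPrimes_eq_zero_divisors]; exact ⟨z, hz0, hz⟩
      obtain ⟨Q, hQ, hyQ⟩ := Set.mem_iUnion₂.1 hmem
      have hQ' := Module.associatedPrimes.comap_mem_associatedPrimes_of_mem_associatedPrimes_of_isLocalizedModule_of_fg
        P.primeCompl (LocalizedModule.mkLinearMap P.primeCompl M') Q hQ (IsNoetherian.noetherian _)
      refine hy _ ⟨hQ', ?_⟩ hyQ
      refine le_trans ?_ hPq
      intro r hr
      by_contra hrP
      exact hQ.isPrime.ne_top (Ideal.eq_top_of_isUnit_mem _ hr
        (IsLocalization.map_units (Localization.AtPrime P) (⟨r, hrP⟩ : P.primeCompl)))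
    have hd := GrothLib.Depth.idealDepth_localization_quotSMulTop p M'
      (maximalIdeal (Localization.AtPrime p)) (x := y)
      (by rw [← Localization.AtPrime.map_eq_maximalIdeal]; exact Ideal.mem_map_of_mem _ hyp)
      (hregq p hpq)
    rw [show LocCoh.idealDepth (maximalIdeal (Localization.AtPrime p)) (LocalizedModule p.primeCompl M')
      = ((n + 1 : ℕ) : ℕ∞) from hn', Nat.cast_succ] at hd
    obtain ⟨i, hi, hik⟩ := ih (QuotSMulTop y M') (by
      show LocCoh.idealDepth _ _ = _
      generalize LocCoh.idealDepth (maximalIdeal (Localization.AtPrime p))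
        (LocalizedModule p.primeCompl (QuotSMulTop y M')) = d at hd ⊢
      induction d using ENat.recTopCoe with
      | top => rw [top_add] at hd; exact absurd hd.symm (by simp)
      | coe d => exact_mod_cast Nat.add_right_cancel (by exact_mod_cast hd : d + 1 = n + 1))
    by_contra hall
    simp only [not_exists, not_and, not_not] at hall
    refine hik ?_
    have hallM' : ∀ j, j ≤ n + 2 → Killed (a.map (algebraMap R (Localization.AtPrime q)))
        (algebraMap R (Localization.AtPrime q) x) j (LocalizedModule q.primeCompl M') := by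
      intro j hj
      have h := hall j hj
      obtain ⟨k', hk'⟩ : ∃ k' : ℕ, ∀ z : LocalizedModule q.primeCompl N,
          (algebraMap R (Localization.AtPrime q) x) ^ k' • z = 0 := by
        refine ⟨k, fun z => ?_⟩
        rw [← map_pow, algebraMap_smul]
        induction z using LocalizedModule.induction_on with
        | h m s => rw [LocalizedModule.smul'_mk, show x ^ k • m = 0 from Subtype.ext (hk m m.2),
            LocalizedModule.zero_mk]
      have hS : (ShortComplex.mk (ModuleCat.ofHom (LocalizedModule.map q.primeCompl N.subtype))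
          (ModuleCat.ofHom (LocalizedModule.map q.primeCompl N.mkQ)) (by
            ext z
            exact ((LocalizedModule.map_exact q.primeCompl N.subtype N.mkQ
              (LinearMap.exact_subtype_mkQ N)) _).2 ⟨z, rfl⟩)).ShortExact :=
        { exact := (ShortComplex.moduleCat_exact_iff _).2 fun z hz =>
            ((LocalizedModule.map_exact q.primeCompl N.subtype N.mkQ (LinearMap.exact_subtype_mkQ N)) z).1 hz
          mono_f := (ModuleCat.mono_iff_injective _).2
            (LocalizedModule.map_injective _ _ N.injective_subtype)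
          epi_g := (ModuleCat.epi_iff_surjective _).2 (LocalizedModule.map_surjective _ _ N.mkQ_surjective) }
      exact Killed.right hS h (Killed.of_pow_smul hk' (j + 1))
    let f : M' →ₗ[R] M' := LinearMap.lsmul R M' y
    let g : M' →ₗ[R] QuotSMulTop y M' := Submodule.mkQ _
    have hfg : Function.Exact f g := by
      intro z
      rw [Submodule.mkQ_apply, Submodule.Quotient.mk_eq_zero, Submodule.mem_smul_pointwise_iff_exists]
      exact ⟨fun ⟨w, _, hw⟩ => ⟨w, hw⟩, fun ⟨w, hw⟩ => ⟨w, Submodule.mem_top, hw⟩⟩
    have hex := LocalizedModule.map_exact q.primeCompl f g hfg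
    have hinj : Function.Injective (LocalizedModule.map q.primeCompl f) := by
      have hr := hregq q le_rfl
      intro z w hzw
      refine hr ?_
      have key : ∀ z, LocalizedModule.map q.primeCompl f z = algebraMap R (Localization.AtPrime q) y • z := by
        intro z
        induction z using LocalizedModule.induction_on with
        | h m s => rw [LocalizedModule.map_mk, algebraMap_smul, LocalizedModule.smul'_mk]; rfl
      exact ((key z).symm.trans hzw).trans (key w)
    have hS : (ShortComplex.mk (ModuleCat.ofHom (LocalizedModule.map q.primeCompl f))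
        (ModuleCat.ofHom (LocalizedModule.map q.primeCompl g)) (by
          ext z; exact (hex _).2 ⟨z, rfl⟩)).ShortExact :=
      { exact := (ShortComplex.moduleCat_exact_iff _).2 fun z hz => (hex z).1 hz
        mono_f := (ModuleCat.mono_iff_injective _).2 hinj
        epi_g := (ModuleCat.epi_iff_surjective _).2
          (LocalizedModule.map_surjective _ _ (Submodule.mkQ_surjective _)) }
    exact Killed.right hS (hallM' i (by omega)) (hallM' (i + 1) (by omega))

/-- The main induction. -/
theorem exists_not_killed (a : Ideal R) (x : R) (M : Type u) [AddCommGroup M] [Module R M]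
    [Module.Finite R M] : ∀ (h : ℕ) (p q : Ideal R) [p.IsPrime] [q.IsPrime], p ≤ q →
      q ∈ (a ⊔ p).minimalPrimes → x ∉ p → relHeight p q = h →
      ∀ n : ℕ, LocCoh.depth (Localization.AtPrime p) (LocalizedModule p.primeCompl M) = n →
        ∃ i : ℕ, i ≤ n + h ∧ ¬ Killed a x i M := by
  intro h
  induction h using Nat.strong_induction_on with
  | _ h ih =>
  intro p q _ _ hpq hq hx hh n hn
  haveI := nontrivial_of_depth_eq hn
  haveI := nontrivial_localized_mono hpq (M := M)
  have ha : a ≤ q := le_trans le_sup_left hq.le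
  have hlocal : ∀ i (P : Ideal R) [P.IsPrime], ¬ Killed (a.map (algebraMap R (Localization.AtPrime P)))
      (algebraMap R (Localization.AtPrime P) x) i (LocalizedModule P.primeCompl M) → ¬ Killed a x i M :=
    fun i P _ h hk => h (hk.localized P.primeCompl)
  have hAt : x ∉ q → ∃ i : ℕ, i ≤ n + h ∧ ¬ Killed a x i M := fun hxq => by
    obtain ⟨t, ht, hk⟩ := exists_not_killed_at a q ha hxq M
    refine ⟨t, ?_, hlocal t q hk⟩
    have h' := ht.trans (Groth.Agent.S11650.result R M p q hpq)
    rw [hn, show (q.map (Ideal.Quotient.mk p)).height = h from hh] at h'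
    exact_mod_cast h'
  rcases h with - | h
  · obtain rfl := eq_of_relHeight_eq_zero hpq (by simpa using hh)
    exact hAt hx
  by_cases hxq : x ∈ q
  swap
  · exact hAt hxq
  have hlt : p < q := lt_of_le_of_ne hpq fun he => hx (he ▸ hxq)
  have hap : ¬ a ≤ p := fun hap => hlt.not_ge (hq.2 ⟨inferInstance, sup_le hap le_rfl⟩ hpq)
  rcases h with - | h
  · obtain ⟨i, hi, hk⟩ := exists_not_killed_height_one a p q hpq ha hap (by simpa using hh) hx n M hn
    exact ⟨i, hi, hlocal i q hk⟩
  · obtain ⟨t, ht, hpt, htq, hxt⟩ := GrothLib.CAux.exists_prime_between p q hlt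
      (by rw [show (q.map (Ideal.Quotient.mk p)).height = ((h + 2 : ℕ) : ℕ∞) from hh]; exact_mod_cast
        (show 1 < h + 2 by omega)) x hxq hx
    haveI := ht
    haveI := nontrivial_localized_mono (p := p) (q := t) hpt.le (M := M)
    obtain ⟨m, hm⟩ := exists_depth_eq t M
    obtain ⟨h₁, hh₁⟩ := ENat.ne_top_iff_exists.1 (relHeight_ne_top p t hpt.le)
    obtain ⟨h₂, hh₂⟩ := ENat.ne_top_iff_exists.1 (relHeight_ne_top t q htq.le)
    have hsum := relHeight_add_le p t q hpt.le htq.le
    have h1 := one_le_relHeight p t hpt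
    rw [← hh₁] at h1
    rw [← hh₁, ← hh₂, hh] at hsum
    norm_cast at hsum h1
    have hm' := Groth.Agent.S11650.result R M p t hpt.le
    rw [hn, hm, show (t.map (Ideal.Quotient.mk p)).height = h₁ from hh₁.symm] at hm'
    norm_cast at hm'
    obtain ⟨i, hi, hk⟩ := ih h₂ (by omega) t q htq.le
      ⟨⟨inferInstance, sup_le ha htq.le⟩, fun Q hQ hQq =>
        hq.2 ⟨hQ.1, le_trans (sup_le_sup_left hpt.le a) hQ.2⟩ hQq⟩ hxt hh₂.symm m hm
    exact ⟨i, by omega, hk⟩

/-- The elementary inequality. -/
theorem finDimRel_le_adjDepth (a b : Ideal R) (M : Type u) [AddCommGroup M] [Module R M]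
    [Module.Finite R M] (p : PrimeSpectrum R) (hb : ¬ b ≤ p.asIdeal) :
    LocCoh.finDimRel a b M ≤ LocCoh.adjDepth a M p := by
  obtain ⟨x, hxb, hxp⟩ := SetLike.not_le_iff_exists.1 hb
  rw [LocCoh.adjDepth]
  by_cases htriv : Subsingleton (LocalizedModule p.asIdeal.primeCompl M)
  · rw [GrothLib.Depth.depth_eq_top_of_subsingleton, top_add]; exact le_top
  rw [not_subsingleton_iff_nontrivial] at htriv
  by_cases htop : a ⊔ p.asIdeal = ⊤
  · rw [htop, show (Ideal.map (Ideal.Quotient.mk p.asIdeal) ⊤).height = ⊤ from relHeight_top _, add_top]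
    exact le_top
  obtain ⟨n, hn⟩ := exists_depth_eq p.asIdeal M
  obtain ⟨q, hq, hqh⟩ := exists_minimalPrime_relHeight_eq a p.asIdeal htop
  haveI := hq.isPrime
  have hpq : p.asIdeal ≤ q := le_trans le_sup_right hq.le
  obtain ⟨h, hh⟩ := ENat.ne_top_iff_exists.1 (relHeight_ne_top p.asIdeal q hpq)
  obtain ⟨i, hi, hk⟩ := exists_not_killed a x M h p.asIdeal q hpq hq hxp hh.symm n hn
  refine (finDimRel_le_of_not_killed hxb hk).trans ?_
  rw [hn, show ((a ⊔ p.asIdeal).map (Ideal.Quotient.mk p.asIdeal)).height = (h : ℕ∞) from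
    hqh.symm.trans hh.symm]
  exact_mod_cast hi

end GrothLib.Faltings
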