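import Groth.Prelude.Def_W4bk5brsh7111920
import Groth.Agent.Lib.LC.Acyclic
import Groth.Agent.Lib.LC.BaseChange
import Groth.Agent.Lib.LC.FlatBC
import Groth.Agent.Lib.LC.Change
import Mathlib.Algebra.Module.LocalizedModule.AtPrime

/-! Annihilation of local cohomology by powers of an element. -/

universe u

open CategoryTheory

namespace GrothLib.Faltings

variable {R : Type u} [CommRing R]

/-- Some power of `x` kills `H^i_I(M)`. -/
def Killed (I : Ideal R) (x : R) (i : ℕ) (M : Type u) [AddCommGroup M] [Module R M] : Prop :=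
  ∃ k : ℕ, ∀ z : LocCoh.H I i M, x ^ k • z = 0

variable {I : Ideal R} {x : R}

theorem Killed.of_subsingleton {M : Type u} [AddCommGroup M] [Module R M] {i : ℕ}
    (h : Subsingleton (LocCoh.H I i M)) : Killed I x i M :=
  ⟨0, fun _ => Subsingleton.elim _ _⟩

theorem map_smul_id (i : ℕ) {M : ModuleCat.{u} R} (a : R) (z : (localCohomology I i).obj M) :
    (localCohomology I i).map (a • 𝟙 M) z = a • z := by
  rw [GrothLib.LC.map_smul_apply, GrothLib.LC.map_id_apply]

theorem smul_H_eq_zero {M : Type u} [AddCommGroup M] [Module R M] (a : R) (h : ∀ m : M, a • m = 0)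
    (i : ℕ) (z : LocCoh.H I i M) : a • z = 0 := by
  rw [← map_smul_id i a z,
    show a • 𝟙 (ModuleCat.of R M) = 0 from ModuleCat.hom_ext (LinearMap.ext fun m => h m),
    GrothLib.LC.map_zero_apply]

theorem Killed.of_pow_smul {M : Type u} [AddCommGroup M] [Module R M] {k : ℕ}
    (h : ∀ m : M, x ^ k • m = 0) (i : ℕ) : Killed I x i M :=
  ⟨k, smul_H_eq_zero (x ^ k) h i⟩

theorem Killed.of_equiv {M M' : Type u} [AddCommGroup M] [Module R M] [AddCommGroup M'] [Module R M']
    (e : M ≃ₗ[R] M') {i : ℕ} (h : Killed I x i M) : Killed I x i M' := by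
  obtain ⟨k, hk⟩ := h
  refine ⟨k, fun z => ?_⟩
  let E : (localCohomology I i).obj (ModuleCat.of R M) ≅ (localCohomology I i).obj (ModuleCat.of R M') :=
    (localCohomology I i).mapIso e.toModuleIso
  obtain ⟨w, rfl⟩ := E.toLinearEquiv.surjective z
  rw [← map_smul, hk, map_zero]

section seq

variable {S : ShortComplex (ModuleCat.{u} R)} (hS : S.ShortExact)

include hS

theorem Killed.middle {i : ℕ} (h₁ : Killed I x i S.X₁) (h₃ : Killed I x i S.X₃) :
    Killed I x i S.X₂ := by
  obtain ⟨k, hk⟩ := h₁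
  obtain ⟨l, hl⟩ := h₃
  refine ⟨k + l, fun z => ?_⟩
  have h0 : (localCohomology I i).map S.g (x ^ l • z) = 0 := by
    rw [map_smul]; exact hl _
  obtain ⟨y, hy⟩ := GrothLib.LC.exists_of_map_g_eq_zero I hS i h0
  rw [pow_add, mul_smul, ← hy, ← map_smul]
  exact (congrArg _ (hk y)).trans (map_zero _)

theorem Killed.right {i : ℕ} (h₂ : Killed I x i S.X₂) (h₁ : Killed I x (i + 1) S.X₁) :
    Killed I x i S.X₃ := by
  obtain ⟨k, hk⟩ := h₂
  obtain ⟨l, hl⟩ := h₁
  refine ⟨k + l, fun z => ?_⟩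
  have h0 : GrothLib.LC.δ I hS i (x ^ l • z) = 0 := by
    rw [map_smul]; exact hl _
  obtain ⟨y, hy⟩ := GrothLib.LC.exists_of_δ_eq_zero I hS i h0
  rw [pow_add, mul_smul, ← hy, ← map_smul]
  exact (congrArg _ (hk y)).trans (map_zero _)

theorem Killed.left {i : ℕ} (h₃ : Killed I x i S.X₃) (h₂ : Killed I x (i + 1) S.X₂) :
    Killed I x (i + 1) S.X₁ := by
  obtain ⟨k, hk⟩ := h₃
  obtain ⟨l, hl⟩ := h₂
  refine ⟨k + l, fun z => ?_⟩
  have h0 : (localCohomology I (i + 1)).map S.f (x ^ l • z) = 0 := by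
    rw [map_smul]; exact hl _
  obtain ⟨y, hy⟩ := GrothLib.LC.exists_of_map_f_eq_zero I hS i h0
  rw [pow_add, mul_smul, ← hy, ← map_smul]
  exact (congrArg _ (hk y)).trans (map_zero _)

end seq

theorem shortExact_subQuot {M : Type u} [AddCommGroup M] [Module R M] (N : Submodule R M) :
    (ShortComplex.mk (X₁ := ModuleCat.of R N) (X₂ := ModuleCat.of R M) (X₃ := ModuleCat.of R (M ⧸ N))
      (ModuleCat.ofHom N.subtype) (ModuleCat.ofHom N.mkQ)
      (ModuleCat.hom_ext (LinearMap.ext fun x => (Submodule.Quotient.mk_eq_zero _).2 x.2))).ShortExact where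
  exact := (ShortComplex.moduleCat_exact_iff _).2 fun x hx =>
    ⟨⟨x, (Submodule.Quotient.mk_eq_zero N).1 hx⟩, rfl⟩
  mono_f := (ModuleCat.mono_iff_injective _).2 N.injective_subtype
  epi_g := (ModuleCat.epi_iff_surjective _).2 N.mkQ_surjective

/-- A submodule killed by a power of `x` may be divided out. -/
theorem killed_quotient_iff {M : Type u} [AddCommGroup M] [Module R M] (N : Submodule R M) {k : ℕ}
    (hN : ∀ m ∈ N, x ^ k • m = 0) (i : ℕ) : Killed I x i (M ⧸ N) ↔ Killed I x i M := by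
  have hN' : ∀ j, Killed I x j N := Killed.of_pow_smul fun m => Subtype.ext (hN m m.2)
  exact ⟨fun h => Killed.middle (shortExact_subQuot N) (hN' i) h,
    fun h => Killed.right (shortExact_subQuot N) h (hN' (i + 1))⟩

theorem exists_pow_smul_eq_of_fg {M : Type u} [AddCommGroup M] [Module R M] {N : Submodule R M}
    (hN : N.FG) (h : ∀ m ∈ N, ∃ k : ℕ, x ^ k • m = 0) : ∃ k : ℕ, ∀ m ∈ N, x ^ k • m = 0 := by
  classical
  obtain ⟨s, rfl⟩ := hN
  choose f hf using fun m : {m // m ∈ s} => h m (Submodule.subset_span m.2)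
  refine ⟨s.attach.sup f, fun m hm => ?_⟩
  refine (Submodule.span_le (p := LinearMap.ker (x ^ s.attach.sup f • LinearMap.id : M →ₗ[R] M))).2
    (fun y hy => ?_) hm
  obtain ⟨c, hc⟩ := Nat.exists_eq_add_of_le (Finset.le_sup (f := f) (Finset.mem_attach s ⟨y, hy⟩))
  show x ^ s.attach.sup f • y = 0
  rw [hc, pow_add, mul_comm, mul_smul, hf ⟨y, hy⟩, smul_zero]

theorem le_finDimRel_iff {a b : Ideal R} {M : Type u} [AddCommGroup M] [Module R M] (n : ℕ) :
    (n : ℕ∞) ≤ LocCoh.finDimRel a b M ↔ ∀ i < n, ∀ x ∈ b, Killed a x i M := by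
  rw [LocCoh.finDimRel]
  simp only [le_iInf_iff, Nat.cast_le, SetLike.le_def, Ideal.mem_radical_iff, Module.mem_annihilator]
  constructor
  · intro h i hi x hx
    by_contra hc
    exact absurd (h i fun hall => hc (hall hx)) (by omega)
  · intro h i hi
    by_contra hlt
    exact hi fun x hx => h i (by omega) x hx

theorem finDimRel_le_of_not_killed {a b : Ideal R} {M : Type u} [AddCommGroup M] [Module R M] {i : ℕ}
    (hx : x ∈ b) (h : ¬ Killed a x i M) : LocCoh.finDimRel a b M ≤ i := by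
  rw [LocCoh.finDimRel]
  exact iInf₂_le_of_le i (fun hle => h (by
    simpa [Killed, Ideal.mem_radical_iff, Module.mem_annihilator] using hle hx)) le_rfl

section baseChange

variable {R' : Type u} [CommRing R'] [Algebra R R'] [IsNoetherianRing R] [IsNoetherianRing R']

open TensorProduct in
theorem Killed.baseChange [Module.Flat R R'] {M : Type u} [AddCommGroup M] [Module R M] {i : ℕ}
    (h : Killed I x i M) :
    Killed (I.map (algebraMap R R')) (algebraMap R R' x) i (R' ⊗[R] M) := by
  obtain ⟨k, hk⟩ := h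
  obtain ⟨e⟩ := GrothLib.LC.nonempty_baseChange_equiv (R' := R') I i M
  refine ⟨k, fun z => ?_⟩
  obtain ⟨w, rfl⟩ := e.surjective z
  rw [← map_smul, ← map_pow]
  convert map_zero e using 2
  induction w using TensorProduct.induction_on with
  | zero => exact smul_zero _
  | add u v hu hv => rw [smul_add, hu, hv, add_zero]
  | tmul r m =>
    rw [TensorProduct.smul_tmul', smul_eq_mul, ← Algebra.smul_def, TensorProduct.smul_tmul, hk,
      TensorProduct.tmul_zero]

theorem Killed.localized (S : Submonoid R) {M : Type u} [AddCommGroup M] [Module R M] {i : ℕ}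
    (h : Killed I x i M) :
    Killed (I.map (algebraMap R (Localization S))) (algebraMap R (Localization S) x) i
      (LocalizedModule S M) :=
  haveI : Module.Flat R (Localization S) := IsLocalization.flat (Localization S) S
  haveI : IsNoetherianRing (Localization S) := IsLocalization.isNoetherianRing S _ inferInstance
  (h.baseChange (R' := Localization S)).of_equiv (LocalizedModule.equivTensorProduct S M).symm

theorem killed_restrictScalars_iff {M : Type u} [AddCommGroup M] [Module R' M] [Module R M]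
    [IsScalarTower R R' M] {i : ℕ} :
    Killed (I.map (algebraMap R R')) (algebraMap R R' x) i M ↔ Killed I x i M := by
  obtain ⟨φ, hφ⟩ := GrothLib.LC.exists_H_addEquiv_restrictScalars (R' := R') I i M
  constructor
  · rintro ⟨k, hk⟩
    refine ⟨k, fun z => ?_⟩
    obtain ⟨w, rfl⟩ := φ.surjective z
    rw [← hφ, map_pow, hk, map_zero]
  · rintro ⟨k, hk⟩
    refine ⟨k, fun z => φ.injective ?_⟩
    rw [← map_pow, hφ, hk, map_zero]

end baseChange

open Abelian in
/-- If `h • q^k ⊆ a ⊆ q` then multiples by powers of `h` come from `H_q`. -/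
theorem exists_smul_eq_hmap {a q : Ideal R} (haq : a ≤ q) {h : R} {k : ℕ}
    (hk : ∀ c ∈ q ^ k, h * c ∈ a) (i : ℕ) (M : ModuleCat.{u} R) (z : (localCohomology a i).obj M) :
    ∃ (e : ℕ) (w : (localCohomology q i).obj M), GrothLib.LC.hmap haq i M w = h ^ e • z := by
  obtain ⟨n, ε, rfl⟩ := GrothLib.LC.exists_toH a z
  have hmem : ∀ c ∈ q ^ (k * n), h ^ n * c ∈ a ^ n := by
    intro c hc
    have hle : Ideal.span {h} * q ^ k ≤ a := by
      rw [Ideal.mul_le]
      intro r hr c hc
      obtain ⟨d, rfl⟩ := Ideal.mem_span_singleton'.1 hr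
      rw [mul_assoc]
      exact a.mul_mem_left d (hk c hc)
    have := Ideal.pow_right_mono hle n
    rw [mul_pow, ← pow_mul] at this
    exact this (Ideal.mul_mem_mul (Ideal.pow_mem_pow (Ideal.mem_span_singleton_self h) n) hc)
  let ψ : GrothLib.LC.quotPow q (k * n) ⟶ GrothLib.LC.quotPow a n :=
    ModuleCat.ofHom (Submodule.mapQ (q ^ (k * n)) (a ^ n) (h ^ n • LinearMap.id) fun c hc => by simpa using hmem c hc)
  refine ⟨n, GrothLib.LC.toH q i (k * n) M ((Ext.mk₀ ψ).comp ε (zero_add i)), ?_⟩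
  rw [GrothLib.LC.hmap_toH, ← map_smul]
  rw [← GrothLib.LC.toH_restrict a (le_max_left (k * n) n),
    ← GrothLib.LC.toH_restrict a (le_max_right (k * n) n)]
  congr 1
  rw [Ext.mk₀_comp_mk₀_assoc, Ext.mk₀_comp_mk₀_assoc, Ext.comp_smul, ← Ext.smul_comp, ← Ext.mk₀_smul]
  congr 2
  refine ModuleCat.hom_ext (LinearMap.ext fun c => ?_)
  obtain ⟨c, rfl⟩ := Submodule.Quotient.mk_surjective _ c
  rfl

end GrothLib.Faltings
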