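import Mathlib.RingTheory.Ideal.KrullsHeightTheorem
import Mathlib.RingTheory.Ideal.MinimalPrime.Noetherian
import Mathlib.RingTheory.Ideal.Quotient.PowTransition
import Groth.Agent.Lib.CAux.Primes

/-! Heights of primes relative to a smaller prime. -/

universe u v

namespace GrothLib.Faltings

variable {A : Type u} [CommRing A] {B : Type v} [CommRing B]

theorem comap_map_eq {f : A →+* B} (hf : Function.Surjective f) {q : Ideal A}
    (h : RingHom.ker f ≤ q) : (q.map f).comap f = q := by
  rw [Ideal.comap_map_of_surjective f hf, ← RingHom.ker_eq_comap_bot, sup_eq_left.2 h]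

theorem height_ker_add_le {f : A →+* B} (hf : Function.Surjective f) (q : Ideal A) [q.IsPrime]
    [(RingHom.ker f).IsPrime] (h : RingHom.ker f ≤ q) :
    (RingHom.ker f).height + (q.map f).height ≤ q.height := by
  haveI : (q.map f).IsPrime := Ideal.map_isPrime_of_surjective hf h
  let x : PrimeSpectrum B := ⟨q.map f, inferInstance⟩
  let g : PrimeSpectrum B → PrimeSpectrum A := PrimeSpectrum.comap f
  have hg : StrictMono g := fun a b hab => by
    refine lt_of_le_of_ne (Ideal.comap_mono hab.le) fun he => hab.ne ?_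
    exact PrimeSpectrum.ext (Ideal.comap_injective_of_surjective _ hf (congrArg PrimeSpectrum.asIdeal he))
  have hgx : g x = ⟨q, inferInstance⟩ := PrimeSpectrum.ext (comap_map_eq hf h)
  let t : PrimeSpectrum A := ⟨RingHom.ker f, inferInstance⟩
  have ht : ∀ a, t ≤ g a := fun a =>
    (RingHom.ker_eq_comap_bot f).le.trans (Ideal.comap_mono bot_le)
  rw [show (RingHom.ker f).height = Order.height t from t.height_eq_orderHeight,
    show (q.map f).height = Order.height x from x.height_eq_orderHeight,
    show q.height = Order.height (g x) by rw [← PrimeSpectrum.height_eq_orderHeight, hgx]]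
  have key : ∀ (l : LTSeries (PrimeSpectrum B)) (i : ℕ) (hi : i < l.length + 1),
      Order.height t + (i : ℕ∞) ≤ Order.height (g (l ⟨i, hi⟩)) := by
    intro l i
    induction i with
    | zero => intro hi; rw [Nat.cast_zero, add_zero]; exact Order.height_mono (ht _)
    | succ i ih =>
      intro hi
      rw [Nat.cast_succ, ← add_assoc]
      exact (add_le_add (ih (by omega)) le_rfl).trans
        (Order.height_add_one_le (hg (l.strictMono (by simp [Fin.lt_def]))))
  have key' : ∀ n : ℕ, (n : ℕ∞) ≤ Order.height x → Order.height t + (n : ℕ∞) ≤ Order.height (g x) := by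
    intro n hn
    obtain ⟨l, hl, hlen⟩ := Order.exists_series_of_le_height x hn
    have := key l n (by omega)
    subst hlen
    exact hl ▸ this
  cases hx : Order.height x with
  | coe n => exact key' n hx.ge
  | top =>
    rw [add_top, top_le_iff]
    exact ENat.eq_top_iff_forall_ge.2 fun n => le_trans le_add_self (key' n (hx ▸ le_top))

variable {R : Type u} [CommRing R]

/-- The height of `(I + p)/p` in `R/p`. -/
noncomputable abbrev relHeight (p I : Ideal R) : ℕ∞ := (I.map (Ideal.Quotient.mk p)).height

theorem height_add_relHeight_le (p q : Ideal R) [p.IsPrime] [q.IsPrime] (h : p ≤ q) :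
    p.height + relHeight p q ≤ q.height := by
  haveI : (RingHom.ker (Ideal.Quotient.mk p)).IsPrime := by rw [Ideal.mk_ker]; infer_instance
  have := height_ker_add_le (f := Ideal.Quotient.mk p) Ideal.Quotient.mk_surjective q
    (by rwa [Ideal.mk_ker])
  rwa [Ideal.mk_ker] at this

theorem relHeight_add_le (p t q : Ideal R) [p.IsPrime] [t.IsPrime] [q.IsPrime] (hpt : p ≤ t)
    (htq : t ≤ q) : relHeight p t + relHeight t q ≤ relHeight p q := by
  haveI := GrothLib.CAux.map_mk_isPrime (s := p) (P := t) hpt
  haveI := GrothLib.CAux.map_mk_isPrime (s := p) (P := q) (hpt.trans htq)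
  have hker : RingHom.ker (Ideal.Quotient.factor hpt) = t.map (Ideal.Quotient.mk p) :=
    Ideal.Quotient.factor_ker hpt
  haveI : (RingHom.ker (Ideal.Quotient.factor hpt)).IsPrime := hker ▸ inferInstance
  have := height_ker_add_le (f := Ideal.Quotient.factor hpt) (Ideal.Quotient.factor_surjective hpt)
    (q.map (Ideal.Quotient.mk p)) (hker.le.trans (Ideal.map_mono htq))
  rwa [hker, Ideal.map_map, Ideal.Quotient.factor_comp_mk] at this

theorem one_le_relHeight (p q : Ideal R) [p.IsPrime] [q.IsPrime] (h : p < q) :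
    1 ≤ relHeight p q := by
  haveI := GrothLib.CAux.map_mk_isPrime (s := p) (P := p) le_rfl
  haveI := GrothLib.CAux.map_mk_isPrime (s := p) (P := q) h.le
  exact le_trans le_add_self (Ideal.height_add_one_le_of_lt_of_isPrime (GrothLib.CAux.map_mk_lt le_rfl h))

theorem relHeight_mono (p : Ideal R) {I J : Ideal R} (h : I ≤ J) : relHeight p I ≤ relHeight p J :=
  Ideal.height_mono (Ideal.map_mono h)

theorem relHeight_sup (p I : Ideal R) : relHeight p (I ⊔ p) = relHeight p I := by
  rw [relHeight, Ideal.map_sup, Ideal.map_quotient_self, sup_bot_eq]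

theorem relHeight_self (p : Ideal R) [p.IsPrime] : relHeight p p = 0 := by
  rw [relHeight, Ideal.map_quotient_self, Ideal.height_bot]

theorem eq_of_relHeight_eq_zero {p q : Ideal R} [p.IsPrime] [q.IsPrime] (h : p ≤ q)
    (h0 : relHeight p q = 0) : p = q := by
  by_contra hne
  exact absurd (h0 ▸ one_le_relHeight p q (lt_of_le_of_ne h hne)) (by decide)

theorem relHeight_ne_top [IsNoetherianRing R] (p q : Ideal R) [p.IsPrime] [q.IsPrime] (h : p ≤ q) :
    relHeight p q ≠ ⊤ := by
  haveI := GrothLib.CAux.map_mk_isPrime (s := p) (P := q) h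
  exact Ideal.height_ne_top (Ideal.IsPrime.ne_top inferInstance)

/-- A prime realizing the height of `(a + p)/p`. -/
theorem exists_minimalPrime_relHeight_eq [IsNoetherianRing R] (a p : Ideal R) [p.IsPrime]
    (h : a ⊔ p ≠ ⊤) : ∃ q ∈ (a ⊔ p).minimalPrimes, relHeight p q = relHeight p (a ⊔ p) := by
  set J := (a ⊔ p).map (Ideal.Quotient.mk p)
  have hJ : J ≠ ⊤ := fun hJ => h (by
    have := comap_map_eq (f := Ideal.Quotient.mk p) Ideal.Quotient.mk_surjective
      (q := a ⊔ p) (by rw [Ideal.mk_ker]; exact le_sup_right)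
    rw [← this, show (a ⊔ p).map (Ideal.Quotient.mk p) = ⊤ from hJ, Ideal.comap_top])
  have hne : J.minimalPrimes.Nonempty := by
    obtain ⟨m, hm, hle⟩ := Ideal.exists_le_maximal J hJ
    haveI := hm.isPrime
    obtain ⟨P, hP, -⟩ := Ideal.exists_minimalPrimes_le hle
    exact ⟨P, hP⟩
  obtain ⟨P, hP, hmin⟩ := Set.exists_min_image J.minimalPrimes Ideal.height
    (J.finite_minimalPrimes_of_isNoetherianRing _) hne
  haveI := hP.isPrime
  refine ⟨P.comap (Ideal.Quotient.mk p), ⟨⟨inferInstance, ?_⟩, ?_⟩, ?_⟩
  · exact (Ideal.map_le_iff_le_comap).1 hP.le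
  · rintro Q ⟨hQ, hle⟩ hQP
    haveI := hQ
    have hk : RingHom.ker (Ideal.Quotient.mk p) ≤ Q := by
      rw [Ideal.mk_ker]; exact le_trans le_sup_right hle
    haveI := Ideal.map_isPrime_of_surjective (f := Ideal.Quotient.mk p) Ideal.Quotient.mk_surjective hk
    have h1 : Q.map (Ideal.Quotient.mk p) ≤ P := Ideal.map_le_iff_le_comap.2 hQP
    have h2 : P ≤ Q.map (Ideal.Quotient.mk p) := hP.2 ⟨inferInstance, Ideal.map_mono hle⟩ h1
    refine (Ideal.comap_mono h2).trans ?_
    rw [comap_map_eq Ideal.Quotient.mk_surjective hk]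
  · rw [relHeight, Ideal.map_comap_of_surjective _ Ideal.Quotient.mk_surjective]
    refine le_antisymm ?_ (Ideal.height_mono hP.le)
    show _ ≤ J.height
    rw [J.height_eq_inf_minimalPrimes]
    exact le_iInf₂ fun Q hQ => hmin Q hQ

theorem relHeight_top (p : Ideal R) : relHeight p ⊤ = ⊤ := by
  rw [relHeight, Ideal.map_top, Ideal.height_top]

end GrothLib.Faltings
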